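import Cfsg.Agent.Lib.SolBase.Reduce
import Cfsg.Agent.Lib.OddBase.Layer

/-!
# Three vectors for a group with a layer over its scalars

Here `Z` acts by scalars of a field `K` and `N` is a layer over `Z`. Unless the layer is a
quaternion or dihedral group, it has an eigenline with a stabilizer larger than `Z`; then the
module is induced from the corresponding eigenspace and five colours of the index group suffice.
-/

set_option autoImplicit false
set_option linter.unusedSectionVars false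
set_option linter.style.haveILetI false

namespace CfsgLib.SolBase

open CfsgLib.OddBase
open scoped Classical commutatorElement

universe u

/-- A linear map annihilated by a split polynomial has an eigenvector. -/
theorem exists_eigen {K : Type u} [Field K] {M : Type u} [AddCommGroup M] [Module K M]
    [Nontrivial M] [Module.Finite K M] (T : Module.End K M) (P : Polynomial K) (hP0 : P ≠ 0)
    (hP : Polynomial.aeval T P = 0) (hsplit : P.Splits) :
    ∃ (μ : K) (v : M), v ≠ 0 ∧ T v = μ • v := by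
  have hint : IsIntegral K T := Algebra.IsIntegral.isIntegral T
  have hdvd : minpoly K T ∣ P := minpoly.dvd K T hP
  have hs : (minpoly K T).Splits := hsplit.of_dvd hP0 hdvd
  obtain ⟨μ, hμ⟩ := hs.exists_eval_eq_zero (minpoly.degree_pos hint).ne'
  obtain ⟨v, hv⟩ := (Module.End.hasEigenvalue_of_isRoot hμ).exists_hasEigenvector
  exact ⟨μ, v, hv.2, hv.apply_eq_smul⟩

/-- The power of a product with central commutator. -/
theorem mul_pow_comm {A : Type*} [Group A] {x y c : A} (h : y * x = c * (x * y))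
    (hcx : Commute c x) (hcy : Commute c y) (n : ℕ) :
    (x * y) ^ n = c ^ (n.choose 2) * (x ^ n * y ^ n) := by
  have hswap : ∀ m : ℕ, y ^ m * x = c ^ m * (x * y ^ m) := by
    intro m
    induction m with
    | zero => simp
    | succ m ih =>
      rw [pow_succ', mul_assoc, ih, ← mul_assoc y, ← (hcy.pow_left m).eq, mul_assoc,
        ← mul_assoc y, h]
      simp only [mul_assoc, pow_succ c]
  induction n with
  | zero => simp
  | succ n ih =>
    rw [pow_succ, ih, show (n + 1).choose 2 = n.choose 2 + n from by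
      rw [Nat.choose_succ_succ, Nat.choose_one_right]; ring]
    calc c ^ n.choose 2 * (x ^ n * y ^ n) * (x * y)
        = c ^ n.choose 2 * (x ^ n * ((y ^ n * x) * y)) := by simp only [mul_assoc]
      _ = c ^ n.choose 2 * (x ^ n * c ^ n * ((x * y ^ n) * y)) := by
          rw [hswap]; simp only [mul_assoc]
      _ = c ^ (n.choose 2 + n) * (x ^ (n + 1) * y ^ (n + 1)) := by
          rw [← (hcx.pow_pow n n).eq, pow_add, pow_succ x, pow_succ y]
          simp only [mul_assoc]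

/-- An injective endomorphism preserving a finite subgroup reflects it. -/
theorem maps_iff {V : Type u} [AddCommGroup V] [Finite V] (f : AddMonoid.End V)
    (hf : Function.Injective f) (U : AddSubgroup V) (h : ∀ x ∈ U, f x ∈ U) (x : V) :
    f x ∈ U ↔ x ∈ U := by
  refine ⟨fun hx => ?_, h x⟩
  obtain ⟨⟨y, hy⟩, e⟩ := Finite.surjective_of_injective
    (f := fun u : U => (⟨f u, h u u.2⟩ : U))
    (fun a b e => Subtype.ext (hf (congrArg Subtype.val e))) ⟨f x, hx⟩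
  rwa [← hf (congrArg Subtype.val e)]

variable {G V : Type u} [Group G] [AddCommGroup V]

/-- The setwise stabilizer of a subgroup of the module. -/
def setStab (ρ : G →* AddMonoid.End V) (U : AddSubgroup V) : Subgroup G where
  carrier := {g | ∀ x, ρ g x ∈ U ↔ x ∈ U}
  one_mem' x := by rw [rho_one]
  mul_mem' {a b} ha hb x := by rw [rho_mul]; exact (ha _).trans (hb x)
  inv_mem' {a} ha x := by
    conv_rhs => rw [← rho_apply_inv ρ a x]
    exact (ha _).symm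

theorem mem_setStab [Finite V] (ρ : G →* AddMonoid.End V) (U : AddSubgroup V) {g : G}
    (h : ∀ x ∈ U, ρ g x ∈ U) : g ∈ setStab ρ U :=
  maps_iff _ (rho_injective ρ g) U h

theorem inv_setStab (ρ : G →* AddMonoid.End V) (U : AddSubgroup V) :
    Inv (ρ.comp (setStab ρ U).subtype) U := fun g x hx => (g.2 x).2 hx

theorem fix_inv {ρ : G →* AddMonoid.End V} {g : G} {v : V} (h : ρ g v = v) : ρ g⁻¹ v = v := by
  conv_lhs => rw [← h]
  exact rho_inv_apply ρ g v

/-- An element fixing a vector and a generating multiple of it centralizes the scalars. -/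
theorem mem_centralizer_of_fix (ρ : G →* AddMonoid.End V) (Z : Subgroup G) [hZn : Z.Normal]
    (hfree : ∀ z ∈ Z, ∀ x, ρ z x = x → x ≠ 0 → z = 1) {z₀ : G} (hz₀ : z₀ ∈ Z)
    (hgen : ∀ z ∈ Z, ∃ k : ℤ, z₀ ^ k = z) {g : G} {v : V} (hv : v ≠ 0) (hgv : ρ g v = v)
    (hgw : ρ g (ρ z₀ v) = ρ z₀ v) : g ∈ Subgroup.centralizer (Z : Set G) := by
  have hconj : ρ (g * z₀ * g⁻¹) v = ρ z₀ v := by rw [rho_mul, rho_mul, fix_inv hgv, hgw]
  have h1 : z₀⁻¹ * (g * z₀ * g⁻¹) = 1 := hfree _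
    (Z.mul_mem (Z.inv_mem hz₀) (hZn.conj_mem z₀ hz₀ g)) v
    (by rw [rho_mul, hconj, rho_inv_apply]) hv
  have hcomm : Commute g z₀ := by
    rw [inv_mul_eq_one, eq_mul_inv_iff_mul_eq] at h1
    exact h1.symm
  refine Subgroup.mem_centralizer_iff.mpr fun z hz => ?_
  obtain ⟨k, rfl⟩ := hgen z hz
  exact (hcomm.zpow_right k).eq.symm

/-- The layer is not irreducible. -/
theorem three_reducible [Finite G] [Finite V] [Group.IsSolvable G] (ρ : G →* AddMonoid.End V)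
    {Z N : Subgroup G} (hL : IsLayer Z N)
    (hcent : ∀ c ∈ Subgroup.centralizer (Z : Set G), (∀ y ∈ N, c * y = y * c) → c ∈ Z)
    (hfree : ∀ z ∈ Z, ∀ x, ρ z x = x → x ≠ 0 → z = 1)
    {U : AddSubgroup V} (hU : ∀ y ∈ N, ∀ x ∈ U, ρ y x ∈ U) (hU0 : U ≠ ⊥) (hU1 : U ≠ ⊤)
    (ih : ∀ (H W : Type u) [Group H] [Finite H] [AddCommGroup W] [Finite W]
      (σ : H →* AddMonoid.End W), Nat.card W < Nat.card V →
        Group.IsSolvable H → CR σ → Three σ) :
    Three ρ := by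
  haveI := hL.normal
  obtain ⟨M, hMU, hM⟩ := exists_minimal_le_of_wellFoundedLT
    (fun M : AddSubgroup V => (∀ y ∈ N, ∀ x ∈ M, ρ y x ∈ M) ∧ M ≠ ⊥) U ⟨hU, hU0⟩
  have hmin : ∀ M' : AddSubgroup V, (∀ y ∈ N, ∀ x ∈ M', ρ y x ∈ M') → M' ≤ M → M' ≠ ⊥ →
      M' = M := fun M' h1 h2 h3 => le_antisymm h2 (hM.2 ⟨h1, h3⟩ h2)
  let B := setStab ρ M
  have hNB : ∀ y ∈ N, y ∈ B := fun y hy => mem_setStab ρ M (hM.1.1 y hy)
  let τ := restr (ρ.comp B.subtype) M (inv_setStab ρ M)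
  have hτ : Irr τ := by
    intro T hT
    by_cases h : T = ⊥
    · exact Or.inl h
    refine Or.inr ?_
    have h1 := hmin (T.map M.subtype) (by
      rintro y hy _ ⟨w, hw, rfl⟩
      exact ⟨_, hT ⟨y, hNB y hy⟩ w hw, rfl⟩) (by rintro _ ⟨w, -, rfl⟩; exact w.2)
      (by rwa [Ne, AddSubgroup.map_eq_bot_iff_of_injective _ M.subtype_injective])
    rw [AddSubgroup.eq_top_iff']
    intro w
    obtain ⟨w', hw', e⟩ : (w : V) ∈ T.map M.subtype := by rw [h1]; exact w.2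
    rwa [← Subtype.ext (show (w' : V) = w from e)]
  haveI : Nontrivial M := (AddSubgroup.nontrivial_iff_ne_bot M).2 hM.1.2
  have hlt : Nat.card M < Nat.card V :=
    lt_of_le_of_ne (Nat.le_of_dvd Nat.card_pos (AddSubgroup.card_addSubgroup_dvd_card _))
      fun h => hU1 (top_le_iff.1 (AddSubgroup.eq_top_of_card_eq M h ▸ hMU))
  obtain ⟨t, ht0, ht⟩ := exists_triple_ne_zero (ih B M τ hlt inferInstance hτ.cr)
  have hv0 : (t 0 : V) ≠ 0 := fun h => ht0 (Subtype.ext h)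
  refine ⟨fun k => (t k : V), fun g hg => ?_⟩
  have hmaps : ∀ w ∈ M, ρ g w ∈ M := by
    have hinv : ∀ y ∈ N, ∀ x ∈ M.comap (ρ g) ⊓ M, ρ y x ∈ M.comap (ρ g) ⊓ M := by
      rintro y hy x ⟨hx1, hx2⟩
      refine ⟨?_, hM.1.1 y hy x hx2⟩
      show ρ g (ρ y x) ∈ M
      have h2 : ρ (g * y * g⁻¹) (ρ g x) ∈ M := hM.1.1 _ (hL.normal.conj_mem y hy g) _ hx1
      rwa [← rho_mul, inv_mul_cancel_right, rho_mul] at h2
    have h1 := hmin _ hinv inf_le_right fun h => hv0 (by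
      rw [← AddSubgroup.mem_bot, ← h]
      exact ⟨show ρ g (t 0 : V) ∈ M from (hg 0).symm ▸ (t 0).2, (t 0).2⟩)
    intro w hw
    rw [← h1] at hw
    exact hw.1
  have hgB : g ∈ B := mem_setStab ρ M hmaps
  have hid : ∀ w ∈ M, ρ g w = w := fun w hw => congrArg Subtype.val
    (DFunLike.congr_fun (ht ⟨g, hgB⟩ fun k => Subtype.ext (hg k)) (⟨w, hw⟩ : M))
  have hid' : ∀ w ∈ M, ρ g⁻¹ w = w := fun w hw => fix_inv (hid w hw)
  have hker : ∀ k ∈ N, (∀ w ∈ M, ρ k w = w) → k = 1 := by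
    intro k hk hkM
    refine hfree k (hL.nondeg k hk fun y hy => ?_) _ (hkM _ (t 0).2) hv0
    rw [← commutatorElement_eq_one_iff_mul_comm]
    refine hfree _ (hL.comm k hk y hy) _ ?_ hv0
    have h1 : ρ k⁻¹ (ρ y⁻¹ (t 0 : V)) = ρ y⁻¹ (t 0 : V) :=
      fix_inv (hkM _ (hM.1.1 _ (inv_mem hy) _ (t 0).2))
    rw [commutatorElement_def, rho_mul, rho_mul, rho_mul, h1, rho_apply_inv, hkM _ (t 0).2]
  have hcomm : ∀ y ∈ N, g * y = y * g := by
    intro y hy
    rw [← commutatorElement_eq_one_iff_mul_comm]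
    have hgy : ⁅g, y⁆ ∈ N := by
      rw [commutatorElement_def]
      exact N.mul_mem (hL.normal.conj_mem y hy g) (N.inv_mem hy)
    refine hker _ hgy fun w hw => ?_
    have hyw : ρ y⁻¹ w ∈ M := hM.1.1 _ (inv_mem hy) w hw
    rw [commutatorElement_def, rho_mul, rho_mul, rho_mul, hid' _ hyw, rho_apply_inv, hid w hw]
  have hgZ : g ∈ Z := hcent g
    (Subgroup.mem_centralizer_iff.mpr fun z hz => (hcomm z (hL.le hz)).symm) hcomm
  rw [hfree g hgZ _ (hg 0) hv0, map_one]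

section Scalars

variable {K : Type u} [Field K] [Finite K] [Module K V] {ρ : G →* AddMonoid.End V}
  {Z N : Subgroup G}

/-- The layer has no element outside the scalars with an eigenvector. -/
theorem three_scalar_free [Finite G] [Finite V] [Nontrivial V] [Z.Normal] [IsCyclic Z]
    (hL : IsLayer Z N) (hfree : ∀ z ∈ Z, ∀ x, ρ z x = x → x ≠ 0 → z = 1)
    (hlin : ∀ g ∈ Subgroup.centralizer (Z : Set G), ∀ (r : K) (v : V), ρ g (r • v) = r • ρ g v)
    (ι : ↥Z →* K) (hι : ∀ (z : ↥Z) (v : V), ρ z v = ι z • v)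
    (hirrN : ∀ U : AddSubgroup V, (∀ y ∈ N, ∀ x ∈ U, ρ y x ∈ U) → U = ⊥ ∨ U = ⊤)
    (hNZ : ∃ a ∈ N, a ∉ Z)
    (heig : ∀ x ∈ N, ∀ (v : V) (r : K), v ≠ 0 → ρ x v = r • v → x ∈ Z) :
    Three ρ := by
  haveI := hL.normal
  haveI := Fintype.ofFinite K
  haveI : Module.Finite K V := Module.Finite.of_finite
  obtain ⟨v₀, hv₀⟩ := exists_ne (0 : V)
  have hιinj : ∀ z : ↥Z, ι z = 1 → z = 1 := fun z h =>
    Subtype.ext (hfree z z.2 v₀ (by rw [hι, h, one_smul]) hv₀)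
  have hιne : ∀ z : ↥Z, ι z ≠ 0 := fun z h => hv₀ (by
    have h1 := hι z v₀
    rw [h, zero_smul] at h1
    exact rho_injective ρ z (h1.trans (map_zero _).symm))
  -- no power of an element outside `Z` is a power in the field
  have hpow : ∀ (r : ℕ), 0 < r → ∀ ζ : K, IsPrimitiveRoot ζ r → ∀ x ∈ N, x ∉ Z →
      ∀ (hx : x ^ r ∈ Z) (γ : K), γ ^ r ≠ ι ⟨x ^ r, hx⟩ := by
    intro r hr ζ hζ x hxN hxZ hx γ hγ
    let T : Module.End K V :=
      { toFun := fun v => ρ x v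
        map_add' := fun v w => map_add (ρ x) v w
        map_smul' := fun c v => hlin x (hL.leC hxN) c v }
    have hTn : ∀ (n : ℕ) (v : V), (T ^ n) v = ρ (x ^ n) v := by
      intro n
      induction n with
      | zero => intro v; rw [pow_zero, pow_zero, rho_one]; rfl
      | succ n ih =>
        intro v
        rw [pow_succ, pow_succ, rho_mul, ← ih]
        rfl
    have hann : Polynomial.aeval T (Polynomial.X ^ r - Polynomial.C (γ ^ r)) = 0 := by
      refine LinearMap.ext fun v => ?_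
      rw [map_sub, map_pow, Polynomial.aeval_X, Polynomial.aeval_C, LinearMap.sub_apply, hTn,
        Module.algebraMap_end_apply, hγ, LinearMap.zero_apply, sub_eq_zero]
      exact hι ⟨x ^ r, hx⟩ v
    obtain ⟨μ, v, hv, hTv⟩ := exists_eigen T _ (Polynomial.X_pow_sub_C_ne_zero hr _) hann
      (X_pow_sub_C_splits_of_isPrimitiveRoot hζ rfl)
    exact hxZ (heig x hxN v μ hv hTv)
  -- commutators
  have hcC : ∀ {x z : G}, x ∈ N → z ∈ Z → Commute z x := fun hx hz =>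
    (cent_comm (hL.leC hx) hz).symm
  have hcpow : ∀ {x y : G}, x ∈ N → y ∈ N → ∀ n : ℕ, ⁅x, y ^ n⁆ = ⁅x, y⁆ ^ n := by
    intro x y hx hy n
    induction n with
    | zero => simp
    | succ n ih =>
      rw [pow_succ, comm_mul_right (hL.leC (pow_mem hy n)) (hL.comm x hx y hy), ih, pow_succ]
  have hcpowl : ∀ {x y : G}, x ∈ N → y ∈ N → ∀ n : ℕ, ⁅x ^ n, y⁆ = ⁅x, y⁆ ^ n := by
    intro x y hx hy n
    rw [← inv_inj, commutatorElement_inv, hcpow hy hx, ← inv_pow, commutatorElement_inv]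
  have hsub : ∀ r : ℕ, ∀ {x y : G}, x ∈ N → y ∈ N → y ^ r ∈ Z → ⁅x, y⁆ ^ r = 1 := by
    intro r x y hx hy hyr
    rw [← hcpow hx hy, commutatorElement_eq_one_iff_mul_comm, (hcC hx hyr).eq]
  have hprod : ∀ {x y : G}, x ∈ N → y ∈ N → ∀ n : ℕ,
      (x * y) ^ n = ⁅y, x⁆ ^ n.choose 2 * (x ^ n * y ^ n) := fun {x y} hx hy n =>
    mul_pow_comm (by simp [commutatorElement_def, mul_assoc]) (hcC hx (hL.comm y hy x hx))
      (hcC hy (hL.comm y hy x hx)) n
  -- the elements of exponent `r` modulo `Z`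
  have hU : ∀ r : ℕ, ∃ U : Subgroup G, U.Normal ∧ Z ≤ U ∧ U ≤ N ∧
      ∀ x, x ∈ U ↔ x ∈ N ∧ x ^ r ∈ Z := by
    intro r
    refine ⟨{ carrier := {x | x ∈ N ∧ x ^ r ∈ Z}
              one_mem' := ⟨one_mem _, by rw [one_pow]; exact one_mem _⟩
              mul_mem' := fun {a b} ha hb => ⟨mul_mem ha.1 hb.1, by
                rw [hprod ha.1 hb.1]
                exact mul_mem (pow_mem (hL.comm b hb.1 a ha.1) _) (mul_mem ha.2 hb.2)⟩
              inv_mem' := fun {a} ha => ⟨inv_mem ha.1, by rw [inv_pow]; exact inv_mem ha.2⟩ },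
      ⟨fun n hn g => ⟨hL.normal.conj_mem n hn.1 g, by
        rw [conj_pow]
        exact (inferInstance : Z.Normal).conj_mem _ hn.2 g⟩⟩,
      fun z hz => ⟨hL.le hz, pow_mem hz r⟩, fun x hx => hx.1, fun x => Iff.rfl⟩
  -- an element of prime order below a given one
  have hdown : ∀ w ∈ N, w ∉ Z → ∃ r j : ℕ, r.Prime ∧ w ^ j ∉ Z ∧ (w ^ j) ^ r ∈ Z := by
    intro w _ hwZ
    let q : G ⧸ Z := QuotientGroup.mk w
    have hm1 : orderOf q ≠ 1 := fun h =>
      hwZ ((QuotientGroup.eq_one_iff w).1 (orderOf_eq_one_iff.1 h))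
    have hmp : 0 < orderOf q := orderOf_pos q
    obtain ⟨r, hr, hrd⟩ := Nat.exists_prime_and_dvd hm1
    refine ⟨r, orderOf q / r, hr, fun h => ?_, ?_⟩
    · have h1 : q ^ (orderOf q / r) = 1 := by
        rw [← QuotientGroup.mk_pow]; exact (QuotientGroup.eq_one_iff _).2 h
      have h2 := orderOf_dvd_of_pow_eq_one h1
      have h3 : orderOf q / r < orderOf q := Nat.div_lt_self hmp hr.one_lt
      have h4 : 0 < orderOf q / r := Nat.div_pos (Nat.le_of_dvd hmp hrd) hr.pos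
      exact absurd (Nat.le_of_dvd h4 h2) (by omega)
    · rw [← pow_mul, Nat.div_mul_cancel hrd, ← QuotientGroup.eq_one_iff, QuotientGroup.mk_pow,
        pow_orderOf_eq_one]
  -- odd primes do not occur
  have hodd : ∀ r : ℕ, r.Prime → r ≠ 2 → ∀ a ∈ N, a ^ r ∈ Z → a ∈ Z := by
    intro r hr hr2 a ha har
    by_contra haZ
    haveI := Fact.mk hr
    obtain ⟨U, hUn, hZU, hUN, hUmem⟩ := hU r
    obtain ⟨W, hWn, hZW, hWN, hUW, hsup⟩ := hL.semisimple U hUn hZU hUN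
    haveI := hUn
    obtain ⟨b, hb, hbr, hab⟩ : ∃ b ∈ N, b ^ r ∈ Z ∧ ⁅a, b⁆ ≠ 1 := by
      by_contra hne
      push Not at hne
      refine haZ (hL.nondeg a ha fun y hy => commutatorElement_eq_one_iff_mul_comm.1 ?_)
      rw [← hsup] at hy
      obtain ⟨u, hu, w, hw, rfl⟩ := Subgroup.mem_sup_of_normal_left.mp hy
      have hwN := hWN hw
      rw [comm_mul_right (hL.leC (hUN hu)) (hL.comm a ha w hwN),
        hne u ((hUmem u).1 hu).1 ((hUmem u).1 hu).2, one_mul]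
      let q : G ⧸ Z := QuotientGroup.mk w
      have h1 : ⁅a, w⁆ ^ r = 1 := by
        rw [← hcpowl ha hwN, commutatorElement_eq_one_iff_mul_comm, (hcC hwN har).eq]
      have h2 : ⁅a, w⁆ ^ orderOf q = 1 := by
        refine hsub _ ha hwN ?_
        rw [← QuotientGroup.eq_one_iff, QuotientGroup.mk_pow, pow_orderOf_eq_one]
      have hcop : Nat.Coprime r (orderOf q) := by
        refine (hr.coprime_iff_not_dvd).2 fun hd => ?_
        have hq0 : 0 < orderOf q := orderOf_pos q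
        have hin : w ^ (orderOf q / r) ∈ U ⊓ W := ⟨(hUmem _).2 ⟨pow_mem hwN _, by
          rw [← pow_mul, Nat.div_mul_cancel hd, ← QuotientGroup.eq_one_iff, QuotientGroup.mk_pow,
            pow_orderOf_eq_one]⟩, pow_mem hw _⟩
        rw [hUW, ← QuotientGroup.eq_one_iff, QuotientGroup.mk_pow] at hin
        have h2 : orderOf q ≤ orderOf q / r := Nat.le_of_dvd
          (Nat.div_pos (Nat.le_of_dvd hq0 hd) hr.pos) (orderOf_dvd_of_pow_eq_one hin)
        have h3 : orderOf q / r < orderOf q := Nat.div_lt_self hq0 hr.one_lt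
        omega
      have h3 := Nat.dvd_gcd (orderOf_dvd_of_pow_eq_one h1) (orderOf_dvd_of_pow_eq_one h2)
      rw [hcop.gcd_eq_one] at h3
      exact orderOf_eq_one_iff.1 (Nat.dvd_one.1 h3)
    have hζ : IsPrimitiveRoot (ι ⟨⁅a, b⁆, hL.comm a ha b hb⟩) r := by
      have h1 : (ι ⟨⁅a, b⁆, hL.comm a ha b hb⟩) ^ r = 1 := by
        rw [← map_pow]
        have : (⟨⁅a, b⁆, hL.comm a ha b hb⟩ : ↥Z) ^ r = 1 := Subtype.ext (hsub r ha hb hbr)
        rw [this, map_one]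
      rw [← orderOf_eq_prime h1 fun h => hab (congrArg Subtype.val (hιinj _ h))]
      exact IsPrimitiveRoot.orderOf _
    obtain ⟨gu, hgu⟩ := IsCyclic.exists_generator (α := Kˣ)
    obtain ⟨m, hm⟩ := Subgroup.mem_zpowers_iff.1 (hgu (Units.mk0 _ (hιne ⟨a ^ r, har⟩)))
    obtain ⟨l, hl⟩ := Subgroup.mem_zpowers_iff.1 (hgu (Units.mk0 _ (hιne ⟨b ^ r, hbr⟩)))
    have hma : (m : ZMod r) ≠ 0 := by
      intro h
      obtain ⟨m', rfl⟩ := (ZMod.intCast_zmod_eq_zero_iff_dvd m r).1 h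
      refine hpow r hr.pos _ hζ a ha haZ har ((gu ^ m' : Kˣ) : K) ?_
      rw [← Units.val_pow_eq_pow_val, ← zpow_natCast (gu ^ m') r, ← zpow_mul, mul_comm, hm,
        Units.val_mk0]
    obtain ⟨i, hi⟩ : ∃ i : ℕ, (r : ℤ) ∣ m * i + l := by
      refine ⟨(-(l : ZMod r) / (m : ZMod r)).val, ?_⟩
      rw [← ZMod.intCast_zmod_eq_zero_iff_dvd]
      push_cast
      rw [ZMod.natCast_zmod_val, mul_div_cancel₀ _ hma, neg_add_cancel]
    obtain ⟨j, hj⟩ := hi
    have hxN : a ^ i * b ∈ N := mul_mem (pow_mem ha i) hb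
    have hxZ : a ^ i * b ∉ Z := fun h => hab (by
      have h1 : ⁅a, a ^ i * b⁆ = 1 :=
        commutatorElement_eq_one_iff_mul_comm.2 (hcC ha h).eq.symm
      rwa [comm_mul_right (hL.leC (pow_mem ha i)) (hL.comm a ha b hb),
        commutatorElement_eq_one_iff_mul_comm.2 ((Commute.refl a).pow_right i).eq, one_mul] at h1)
    have hch : ⁅b, a ^ i⁆ ^ r.choose 2 = 1 := by
      have h1 : ⁅b, a ^ i⁆ ^ r = 1 := hsub r hb (pow_mem ha i) (by
        rw [← pow_mul, mul_comm, pow_mul]; exact pow_mem har i)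
      obtain ⟨c, hc⟩ := hr.dvd_choose_self two_ne_zero
        (lt_of_le_of_ne hr.two_le (Ne.symm hr2))
      rw [hc, pow_mul, h1, one_pow]
    have hxr : (a ^ i * b) ^ r = (a ^ r) ^ i * b ^ r := by
      rw [hprod (pow_mem ha i) hb, hch, one_mul, ← pow_mul, mul_comm i, pow_mul]
    refine hpow r hr.pos _ hζ _ hxN hxZ (hxr ▸ mul_mem (pow_mem har i) hbr)
      ((gu ^ j : Kˣ) : K) ?_
    have : (⟨(a ^ i * b) ^ r, hxr ▸ mul_mem (pow_mem har i) hbr⟩ : ↥Z) =
        ⟨a ^ r, har⟩ ^ i * ⟨b ^ r, hbr⟩ := Subtype.ext (by simpa using hxr)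
    rw [this, map_mul, map_pow, ← Units.val_mk0 (hιne ⟨a ^ r, har⟩),
      ← Units.val_mk0 (hιne ⟨b ^ r, hbr⟩), ← hm, ← hl, ← Units.val_pow_eq_pow_val,
      ← Units.val_pow_eq_pow_val, ← Units.val_mul, ← zpow_natCast (gu ^ j) r,
      ← zpow_natCast (gu ^ m) i, ← zpow_mul, ← zpow_mul, ← zpow_add, hj, mul_comm]
  -- so every square is a scalar
  have hsq : ∀ y ∈ N, y ^ 2 ∈ Z := by
    obtain ⟨U, hUn, hZU, hUN, hUmem⟩ := hU 2
    obtain ⟨W, hWn, hZW, hWN, hUW, hsup⟩ := hL.semisimple U hUn hZU hUN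
    have hWZ : W ≤ Z := by
      intro w hw
      by_contra hwZ
      obtain ⟨r, j, hr, hj, hjr⟩ := hdown w (hWN hw) hwZ
      by_cases h2 : r = 2
      · subst h2
        exact hj (hUW ▸ Subgroup.mem_inf.2
          ⟨(hUmem _).2 ⟨pow_mem (hWN hw) j, hjr⟩, pow_mem hw j⟩)
      · exact hj (hodd r hr h2 _ (pow_mem (hWN hw) j) hjr)
    intro y hy
    have hyU : y ∈ U := (sup_le le_rfl (hWZ.trans hZU)) (hsup.symm ▸ hy)
    exact ((hUmem y).1 hyU).2
  obtain ⟨a, ha, haZ⟩ := hNZ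
  obtain ⟨b, hb, hab⟩ : ∃ b ∈ N, ⁅a, b⁆ ≠ 1 := by
    by_contra hne
    push Not at hne
    exact haZ (hL.nondeg a ha fun y hy => commutatorElement_eq_one_iff_mul_comm.1 (hne y hy))
  have hεone : ∀ {x y : G}, (hx : x ∈ N) → (hy : y ∈ N) → ⁅x, y⁆ ≠ 1 →
      ι ⟨⁅x, y⁆, hL.comm x hx y hy⟩ = -1 := by
    intro x y hx hy h
    have h1 : ι ⟨⁅x, y⁆, hL.comm x hx y hy⟩ ^ 2 = 1 := by
      rw [← map_pow]
      have : (⟨⁅x, y⁆, hL.comm x hx y hy⟩ : ↥Z) ^ 2 = 1 :=
        Subtype.ext (hsub 2 hx hy (hsq y hy))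
      rw [this, map_one]
    exact (sq_eq_one_iff.1 h1).resolve_left fun e => h (congrArg Subtype.val (hιinj _ e))
  have hneg : (-1 : K) ≠ 1 := fun h => hab (congrArg Subtype.val
    (hιinj _ ((hεone ha hb hab).trans h)))
  have hchar : ringChar K ≠ 2 := fun h => hneg (neg_one_eq_one_iff.2 h)
  have hprim : IsPrimitiveRoot (-1 : K) 2 := by
    rw [← orderOf_eq_prime (p := 2) (x := (-1 : K)) (by norm_num) hneg]
    exact IsPrimitiveRoot.orderOf _
  have hnsq : ∀ {x : G}, (hx : x ∈ N) → x ∉ Z → ¬ IsSquare (ι ⟨x ^ 2, hsq x hx⟩) := by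
    rintro x hx hxZ ⟨γ, hγ⟩
    exact hpow 2 two_pos _ hprim x hx hxZ (hsq x hx) γ (by rw [hγ, sq])
  have hmulsq : ∀ c d : K, ¬ IsSquare c → ¬ IsSquare d → IsSquare (c * d) := by
    intro c d hc hd
    have hc0 : c ≠ 0 := fun h => hc (h ▸ IsSquare.zero)
    have hd0 : d ≠ 0 := fun h => hd (h ▸ IsSquare.zero)
    rw [← quadraticChar_one_iff_isSquare (mul_ne_zero hc0 hd0), map_mul,
      quadraticChar_neg_one_iff_not_isSquare.2 hc, quadraticChar_neg_one_iff_not_isSquare.2 hd]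
    norm_num
  have hcommZ : ∀ {x y : G}, x ∈ N → y ∈ N → x ∉ Z → y ∉ Z → ⁅x, y⁆ = 1 → x * y ∈ Z := by
    intro x y hx hy hxZ hyZ h
    by_contra hxyZ
    refine hnsq (mul_mem hx hy) hxyZ ?_
    have : (⟨(x * y) ^ 2, hsq _ (mul_mem hx hy)⟩ : ↥Z) = ⟨x ^ 2, hsq x hx⟩ * ⟨y ^ 2, hsq y hy⟩ :=
      Subtype.ext (Commute.mul_pow (commutatorElement_eq_one_iff_mul_comm.1 h) 2)
    rw [this, map_mul]
    exact hmulsq _ _ (hnsq hx hxZ) (hnsq hy hyZ)
  have hbZ : b ∉ Z := fun h =>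
    hab (commutatorElement_eq_one_iff_mul_comm.2 (hcC ha h).eq.symm)
  -- the two anticommuting generators
  obtain ⟨c, hc⟩ : ∃ c, c = ι ⟨a ^ 2, hsq a ha⟩ := ⟨_, rfl⟩
  obtain ⟨d, hd⟩ : ∃ d, d = ι ⟨b ^ 2, hsq b hb⟩ := ⟨_, rfl⟩
  have hcns : ¬ IsSquare c := hc ▸ hnsq ha haZ
  have hdns : ¬ IsSquare d := hd ▸ hnsq hb hbZ
  obtain ⟨e, he⟩ := hmulsq c d hcns hdns
  have hc0 : c ≠ 0 := hc ▸ hιne _
  obtain ⟨γ, hγ⟩ : ∃ γ : K, d = c * γ ^ 2 :=
    ⟨e / c, by field_simp; linear_combination he⟩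
  obtain ⟨s, t, hst⟩ := FiniteField.exists_root_sum_quadratic
    (f := (Polynomial.X ^ 2 : Polynomial K)) (g := Polynomial.X ^ 2 - Polynomial.C c)
    (Polynomial.degree_X_pow 2) (Polynomial.degree_X_pow_sub_C two_pos c)
    (FiniteField.odd_card_of_char_ne_two hchar)
  simp only [Polynomial.eval_pow, Polynomial.eval_X, Polynomial.eval_sub, Polynomial.eval_C] at hst
  have hs0 : s ≠ 0 := by
    rintro rfl
    exact hcns ⟨t, by linear_combination -hst⟩
  have hγ0 : γ ≠ 0 := by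
    rintro rfl
    exact hdns (by rw [hγ]; simp)
  obtain ⟨β, hβ⟩ : ∃ β : K, β = t * γ / s := ⟨_, rfl⟩
  obtain ⟨α, hα⟩ : ∃ α : K, d + β ^ 2 * c = α ^ 2 :=
    ⟨c * γ / s, by rw [hγ, hβ]; field_simp; linear_combination hst⟩
  have hα0 : α ≠ 0 := by
    rintro rfl
    have h : c * (γ ^ 2 + β ^ 2) = 0 := by linear_combination hα - hγ
    have h2 : γ ^ 2 * c = 0 := by
      have h1 := (mul_eq_zero.1 h).resolve_left hc0
      rw [hβ] at h1
      field_simp at h1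
      linear_combination h1 - γ ^ 2 * hst
    exact mul_ne_zero (pow_ne_zero 2 hγ0) hc0 h2
  have hba : ∀ v, ρ b (ρ a v) = -ρ a (ρ b v) := by
    intro v
    have h1 : b * a = ⁅b, a⁆ * (a * b) := by simp [commutatorElement_def, mul_assoc]
    have h2 : ⁅b, a⁆ ≠ 1 := fun h => hab (by rw [← commutatorElement_inv, h, inv_one])
    rw [← rho_mul, h1, rho_mul, hι ⟨⁅b, a⁆, hL.comm b hb a ha⟩, hεone hb ha h2, neg_one_smul,
      rho_mul]
  have haa : ∀ v, ρ a (ρ a v) = c • v := fun v => by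
    rw [← rho_mul, ← sq, hc]; exact hι ⟨a ^ 2, hsq a ha⟩ v
  have hbb : ∀ v, ρ b (ρ b v) = d • v := fun v => by
    rw [← rho_mul, ← sq, hd]; exact hι ⟨b ^ 2, hsq b hb⟩ v
  let T : Module.End K V :=
    { toFun := fun v => ρ b v + β • ρ a v
      map_add' := fun v w => by rw [map_add, map_add, smul_add]; abel
      map_smul' := fun r v => by
        rw [hlin b (hL.leC hb), hlin a (hL.leC ha), smul_comm β r, smul_add]; rfl }
  have hTT : ∀ v, T (T v) = (α ^ 2) • v := by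
    intro v
    show ρ b (ρ b v + β • ρ a v) + β • ρ a (ρ b v + β • ρ a v) = _
    simp only [map_add, hlin b (hL.leC hb), hlin a (hL.leC ha), haa, hbb, hba, ← hα, add_smul,
      smul_add, smul_neg, smul_smul, sq, mul_assoc]
    abel
  have hann : Polynomial.aeval T (Polynomial.X ^ 2 - Polynomial.C (α ^ 2)) = 0 := by
    refine LinearMap.ext fun v => ?_
    rw [map_sub, map_pow, Polynomial.aeval_X, Polynomial.aeval_C, LinearMap.sub_apply,
      LinearMap.zero_apply, Module.algebraMap_end_apply, sub_eq_zero, sq T]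
    exact hTT v
  obtain ⟨μ, v, hv, hTv⟩ := exists_eigen T _ (Polynomial.X_pow_sub_C_ne_zero two_pos _) hann
    (X_pow_sub_C_splits_of_isPrimitiveRoot hprim rfl)
  have hbv : ρ b v = μ • v - β • ρ a v := eq_sub_of_add_eq hTv
  let W : AddSubgroup V :=
    { carrier := {x | ∃ r q : K, x = r • v + q • ρ a v}
      zero_mem' := ⟨0, 0, by simp⟩
      add_mem' := by
        rintro _ _ ⟨r, q, rfl⟩ ⟨r', q', rfl⟩
        exact ⟨r + r', q + q', by rw [add_smul, add_smul]; abel⟩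
      neg_mem' := by
        rintro _ ⟨r, q, rfl⟩
        exact ⟨-r, -q, by rw [neg_smul, neg_smul]; abel⟩ }
  have hWa : a ∈ setStab ρ W := mem_setStab ρ W (by
    rintro _ ⟨r, q, rfl⟩
    exact ⟨q * c, r, by
      rw [map_add, hlin a (hL.leC ha), hlin a (hL.leC ha), haa, smul_smul, add_comm]⟩)
  have hWb : b ∈ setStab ρ W := mem_setStab ρ W (by
    rintro _ ⟨r, q, rfl⟩
    refine ⟨r * μ + q * β * c, -(r * β) - q * μ, ?_⟩
    rw [map_add, hlin b (hL.leC hb), hlin b (hL.leC hb), hba, hbv, map_sub,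
      hlin a (hL.leC ha), hlin a (hL.leC ha), haa]
    module)
  have hWz : ∀ z ∈ Z, z ∈ setStab ρ W := fun z hz => mem_setStab ρ W (by
    rintro _ ⟨r, q, rfl⟩
    exact ⟨ι ⟨z, hz⟩ * r, ι ⟨z, hz⟩ * q, by rw [hι ⟨z, hz⟩, smul_add, mul_smul, mul_smul]⟩)
  have hWN : ∀ y ∈ N, y ∈ setStab ρ W := by
    intro y hy
    have hsplit : ∀ y ∈ N, ⁅a, y⁆ = 1 → y ∈ setStab ρ W := by
      intro y hy h
      by_cases hyZ : y ∈ Z
      · exact hWz y hyZ
      · have := mul_mem (inv_mem hWa) (hWz _ (hcommZ ha hy haZ hyZ h))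
        rwa [inv_mul_cancel_left] at this
    by_cases h : ⁅a, y⁆ = 1
    · exact hsplit y hy h
    · have h1 : ⁅a, y * b⁆ = 1 := by
        rw [comm_mul_right (hL.leC hy) (hL.comm a ha b hb)]
        refine congrArg Subtype.val (hιinj
          (⟨⁅a, y⁆, hL.comm a ha y hy⟩ * ⟨⁅a, b⁆, hL.comm a ha b hb⟩) ?_)
        rw [map_mul, hεone ha hy h, hεone ha hb hab]
        norm_num
      have := mul_mem (hsplit _ (mul_mem hy hb) h1) (inv_mem hWb)
      rwa [mul_inv_cancel_right] at this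
  have hWtop : W = ⊤ := (hirrN W fun y hy x hx => ((hWN y hy) x).2 hx).resolve_left fun h =>
    hv (AddSubgroup.mem_bot.1 (h ▸ (⟨1, 0, by simp⟩ : v ∈ W)))
  obtain ⟨⟨z₀, hz₀⟩, hgen⟩ := IsCyclic.exists_generator (α := ↥Z)
  have hgen' : ∀ z ∈ Z, ∃ k : ℤ, z₀ ^ k = z := fun z hz => by
    obtain ⟨k, hk⟩ := Subgroup.mem_zpowers_iff.1 (hgen ⟨z, hz⟩)
    exact ⟨k, (Subgroup.coe_zpow _ _ _).symm.trans (congrArg Subtype.val hk)⟩
  refine ⟨![v, ρ a v, ρ z₀ v], fun g hg => ?_⟩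
  have hgv : ρ g v = v := hg 0
  have hga : ρ g (ρ a v) = ρ a v := hg 1
  have hgC : g ∈ Subgroup.centralizer (Z : Set G) :=
    mem_centralizer_of_fix ρ Z hfree hz₀ hgen' hv hgv (hg 2)
  refine end_ext fun x => ?_
  obtain ⟨r, q, rfl⟩ : x ∈ W := hWtop ▸ AddSubgroup.mem_top x
  show ρ g (r • v + q • ρ a v) = r • v + q • ρ a v
  rw [map_add, hlin g hgC, hlin g hgC, hgv, hga]

/-- Five directions in a plane, four of them non-zero. -/
def dirs (r : K) : Fin 5 → K × K := ![(0, 0), (1, 0), (1, 1), (1, r), (0, 1)]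

theorem dirs_eq {r : K} (hr0 : r ≠ 0) (hr1 : r ≠ 1) {i j : Fin 5} {l : K} (hl : l ≠ 0)
    (h1 : (dirs r i).1 = l * (dirs r j).1) (h2 : (dirs r i).2 = l * (dirs r j).2) :
    i = j ∧ (j ≠ 0 → l = 1) := by
  fin_cases i <;> fin_cases j <;> simp [dirs] at h1 h2 ⊢ <;> grind

/-- The layer has an eigenline with stabilizer larger than the scalars. -/
theorem three_line [Finite G] [Finite V] [Group.IsSolvable G] [Z.Normal]
    (hL : IsLayer Z N) (hfree : ∀ z ∈ Z, ∀ x, ρ z x = x → x ≠ 0 → z = 1)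
    (hfaith : ∀ g, ρ g = 1 → g = 1)
    (hlin : ∀ g ∈ Subgroup.centralizer (Z : Set G), ∀ (r : K) (v : V), ρ g (r • v) = r • ρ g v)
    (σ : G → K → K) (hσ : ∀ (g : G) (r : K) (v : V), ρ g (r • v) = σ g r • ρ g v)
    (ι : ↥Z →* K) (hι : ∀ (z : ↥Z) (v : V), ρ z v = ι z • v)
    (hirrN : ∀ U : AddSubgroup V, (∀ y ∈ N, ∀ x ∈ U, ρ y x ∈ U) → U = ⊥ ∨ U = ⊤)
    {x₀ : G} (hx₀ : x₀ ∈ N) (hx₀Z : x₀ ∉ Z) {v₀ : V} {r₀ : K} (hv₀ : v₀ ≠ 0)
    (hx₀v : ρ x₀ v₀ = r₀ • v₀)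
    (ih : ∀ (H W : Type u) [Group H] [Finite H] [AddCommGroup W] [Finite W]
      (σ : H →* AddMonoid.End W), Nat.card W < Nat.card V →
        Group.IsSolvable H → CR σ → Three σ) :
    Three ρ := by
  haveI := hL.normal
  have hlinN : ∀ y ∈ N, ∀ (r : K) (v : V), ρ y (r • v) = r • ρ y v := fun y hy =>
    hlin y (hL.leC hy)
  have heq1 : ∀ {r : K} {v : V}, v ≠ 0 → r • v = v → r = 1 := fun {r v} hv h =>
    smul_left_injective K hv (by simpa using h)
  -- line stabilizers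
  let S : V → Subgroup G := fun v =>
    { carrier := {x | x ∈ N ∧ ∃ r : K, ρ x v = r • v}
      one_mem' := ⟨one_mem _, 1, by rw [rho_one, one_smul]⟩
      mul_mem' := fun {a b} ha hb => ⟨mul_mem ha.1 hb.1, by
        obtain ⟨r, hr⟩ := ha.2
        obtain ⟨q, hq⟩ := hb.2
        exact ⟨q * r, by rw [rho_mul, hq, hlinN a ha.1, hr, mul_smul]⟩⟩
      inv_mem' := fun {a} ha => ⟨inv_mem ha.1, by
        obtain ⟨r, hr⟩ := ha.2
        refine ⟨r⁻¹, ?_⟩
        by_cases h : r = 0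
        · rw [h, zero_smul] at hr
          rw [rho_injective ρ a (hr.trans (map_zero _).symm), map_zero, smul_zero]
        · refine rho_injective ρ a ?_
          rw [rho_apply_inv, hlinN a ha.1, hr, smul_smul, inv_mul_cancel₀ h, one_smul]⟩ }
  obtain ⟨v, hv, hvmax⟩ := Set.exists_max_image {v : V | v ≠ 0} (fun v => Nat.card (S v))
    (Set.toFinite _) ⟨v₀, hv₀⟩
  have hZS : ∀ w, Z ≤ S w := fun w z hz => ⟨hL.le hz, ι ⟨z, hz⟩, hι ⟨z, hz⟩ w⟩
  obtain ⟨s₀, hs₀, hs₀Z⟩ : ∃ s ∈ S v, s ∉ Z := by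
    by_contra hne
    push Not at hne
    have h1 : Nat.card (S v₀) ≤ Nat.card (S v) := hvmax v₀ hv₀
    have h3 : S v₀ = Z := (Subgroup.eq_of_le_of_card_ge (hZS v₀)
      (h1.trans (Subgroup.card_le_of_le hne))).symm
    exact hx₀Z (h3 ▸ (⟨hx₀, r₀, hx₀v⟩ : x₀ ∈ S v₀))
  choose χ hχ using fun s : S v => s.2.2
  let W₀ : AddSubgroup V :=
    { carrier := {w | ∀ s : S v, ρ (s : G) w = χ s • w}
      zero_mem' := fun s => by rw [map_zero, smul_zero]
      add_mem' := fun {a b} ha hb s => by rw [map_add, ha s, hb s, smul_add]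
      neg_mem' := fun {a} ha s => by rw [map_neg, ha s, smul_neg] }
  have hW₀smul : ∀ (r : K), ∀ w ∈ W₀, r • w ∈ W₀ := fun r w hw s => by
    rw [hlinN _ s.2.1, hw s, smul_comm]
  have hvW : v ∈ W₀ := hχ
  -- every non-zero vector of `W₀` has the same line stabilizer
  have hSeq : ∀ w ∈ W₀, w ≠ 0 → ∀ y ∈ N, (∃ r : K, ρ y w = r • w) → y ∈ S v := by
    intro w hw hw0 y hy hyw
    have h2 := Subgroup.eq_of_le_of_card_ge
      (show S v ≤ S w from fun s hs => ⟨hs.1, χ ⟨s, hs⟩, hw ⟨s, hs⟩⟩) (hvmax w hw0)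
    rw [h2]
    exact ⟨hy, hyw⟩
  have hSab : ∀ a ∈ S v, ∀ b ∈ S v, a * b = b * a := by
    intro a ha b hb
    rw [← commutatorElement_eq_one_iff_mul_comm]
    refine hfree _ (hL.comm a ha.1 b hb.1) v ?_ hv
    have e : a * b = ⁅a, b⁆ * (b * a) := by simp [commutatorElement_def, mul_assoc]
    have h1 : ρ (a * b) v = (χ ⟨b, hb⟩ * χ ⟨a, ha⟩) • v := by
      rw [rho_mul, hχ ⟨b, hb⟩, hlinN a ha.1, hχ ⟨a, ha⟩, mul_smul]
    have h2 : ρ (b * a) v = (χ ⟨b, hb⟩ * χ ⟨a, ha⟩) • v := by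
      rw [rho_mul, hχ ⟨a, ha⟩, hlinN b hb.1, hχ ⟨b, hb⟩, mul_comm, mul_smul]
    have h0 : χ ⟨b, hb⟩ * χ ⟨a, ha⟩ ≠ 0 := fun h => hv (rho_injective ρ (a * b)
      (by rw [h1, h, zero_smul, map_zero]))
    rw [e, rho_mul, h2, hlin _ (hL.leC (hL.le (hL.comm a ha.1 b hb.1)))] at h1
    exact smul_right_injective V h0 h1
  -- the centralizer of the line stabilizer
  let A : Subgroup G := N ⊓ Subgroup.centralizer (S v : Set G)
  have hA : ∀ {y : G}, y ∈ N → (∀ s ∈ S v, ⁅s, y⁆ = 1) → y ∈ A := fun hy h =>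
    ⟨hy, Subgroup.mem_centralizer_iff.2 fun s hs =>
      commutatorElement_eq_one_iff_mul_comm.1 (h s hs)⟩
  have hA' : ∀ {y : G}, y ∈ A → ∀ s ∈ S v, ⁅s, y⁆ = 1 := fun hy s hs =>
    commutatorElement_eq_one_iff_mul_comm.2 (Subgroup.mem_centralizer_iff.1 hy.2 s hs)
  have hZA : Z ≤ A := fun z hz => hA (hL.le hz) fun s hs =>
    commutatorElement_eq_one_iff_mul_comm.2 (cent_comm (hL.leC hs.1) hz)
  haveI hAn : (A.subgroupOf N).Normal := ⟨fun n hn g => by
    rw [Subgroup.mem_subgroupOf] at hn ⊢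
    have h1 : (((g * n * g⁻¹) : ↥N) : G) = ⁅(g : G), (n : G)⁆ * n := by
      simp [commutatorElement_def, mul_assoc]
    rw [h1]
    exact mul_mem (hZA (hL.comm g g.2 n n.2)) hn⟩
  letI : CommGroup (↥N ⧸ A.subgroupOf N) :=
    { (inferInstance : Group (↥N ⧸ A.subgroupOf N)) with
      mul_comm := fun p q => by
        induction p using QuotientGroup.induction_on with
        | H p =>
          induction q using QuotientGroup.induction_on with
          | H q =>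
            rw [← QuotientGroup.mk_mul, ← QuotientGroup.mk_mul, QuotientGroup.eq,
              Subgroup.mem_subgroupOf]
            have h1 : (((p * q)⁻¹ * (q * p) : ↥N) : G) = ⁅(q : G)⁻¹, (p : G)⁻¹⁆ := by
              simp [commutatorElement_def, mul_assoc]
            rw [h1]
            exact hZA (hL.comm _ (inv_mem q.2) _ (inv_mem p.2)) }
  haveI := Fintype.ofFinite (↥N ⧸ A.subgroupOf N)
  -- representatives
  obtain ⟨τ, hτ1, hτ⟩ : ∃ τ : (↥N ⧸ A.subgroupOf N) → ↥N, τ 1 = 1 ∧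
      ∀ q, (τ q : ↥N ⧸ A.subgroupOf N) = q := by
    refine ⟨fun q => if q = 1 then 1 else q.out, if_pos rfl, fun q => ?_⟩
    by_cases h : q = 1
    · simp [h]
    · simp only [if_neg h]
      exact QuotientGroup.out_eq' q
  have hdecomp : ∀ y : ↥N, ((τ (y : ↥N ⧸ A.subgroupOf N) : G))⁻¹ * (y : G) ∈ A := by
    intro y
    have h := QuotientGroup.eq.1 (hτ (y : ↥N ⧸ A.subgroupOf N))
    rw [Subgroup.mem_subgroupOf] at h
    simpa using h
  -- eigenspaces
  have heigen : ∀ {y : G}, (hy : y ∈ N) → ∀ w ∈ W₀, ∀ s : S v,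
      ρ (s : G) (ρ y w) = (ι ⟨⁅(s : G), y⁆, hL.comm s s.2.1 y hy⟩ * χ s) • ρ y w := by
    intro y hy w hw s
    have e : (s : G) * y = ⁅(s : G), y⁆ * (y * s) := by simp [commutatorElement_def, mul_assoc]
    rw [← rho_mul, e, rho_mul, rho_mul, hw s, hlinN y hy, hι ⟨_, hL.comm s s.2.1 y hy⟩,
      smul_smul]
  have hAW : ∀ a ∈ A, ∀ w ∈ W₀, ρ a w ∈ W₀ := by
    intro a ha w hw s
    rw [heigen ha.1 w hw s]
    have : (⟨⁅(s : G), a⁆, hL.comm s s.2.1 a ha.1⟩ : ↥Z) = 1 := Subtype.ext (hA' ha s s.2)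
    rw [this, map_one, one_mul]
  have hιinj : ∀ z : ↥Z, ι z = 1 → z = 1 := fun z h =>
    Subtype.ext (hfree z z.2 v (by rw [hι, h, one_smul]) hv)
  have hind : ∀ f : (↥N ⧸ A.subgroupOf N) → V, (∀ q, f q ∈ W₀) →
      ∑ q, ρ (τ q : G) (f q) = 0 → ∀ q, f q = 0 := by
    have key : ∀ (T : Finset (↥N ⧸ A.subgroupOf N)) (f : (↥N ⧸ A.subgroupOf N) → V),
        (∀ q, f q ∈ W₀) → ∑ q ∈ T, ρ (τ q : G) (f q) = 0 → ∀ q ∈ T, f q = 0 := by
      intro T
      induction T using Finset.induction_on with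
      | empty => simp
      | insert q₁ T hq₁ ihT =>
        intro f hf hsum
        rw [Finset.sum_insert hq₁] at hsum
        let lam : (↥N ⧸ A.subgroupOf N) → S v → K := fun q s =>
          ι ⟨⁅(s : G), (τ q : G)⁆, hL.comm s s.2.1 _ (τ q).2⟩ * χ s
        have hrest : ∀ q ∈ T, f q = 0 := by
          intro q hq
          by_contra hfq
          have hne : q ≠ q₁ := fun e => hq₁ (e ▸ hq)
          refine hne ?_
          rw [← hτ q, ← hτ q₁, QuotientGroup.eq, Subgroup.mem_subgroupOf]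
          refine hA ((τ q)⁻¹ * τ q₁).2 fun s hs => ?_
          have hcoef : ∀ q' ∈ T, (lam q' ⟨s, hs⟩ - lam q₁ ⟨s, hs⟩) • f q' = 0 := by
            refine ihT _ (fun q' => hW₀smul _ _ (hf q')) ?_
            have h1 := congrArg (fun u => ρ s u - lam q₁ ⟨s, hs⟩ • u) hsum
            simp only [map_add, map_sum, map_zero, smul_add, Finset.smul_sum, smul_zero,
              sub_zero] at h1
            rw [heigen (τ q₁).2 _ (hf q₁) ⟨s, hs⟩, add_sub_add_left_eq_sub,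
              ← Finset.sum_sub_distrib] at h1
            rw [← h1]
            refine Finset.sum_congr rfl fun q' _ => ?_
            rw [hlinN _ (τ q').2, sub_smul, heigen (τ q').2 _ (hf q') ⟨s, hs⟩]
          have h2 := sub_eq_zero.1 ((smul_eq_zero.1 (hcoef q hq)).resolve_right hfq)
          have hχ0 : χ ⟨s, hs⟩ ≠ 0 := fun h => hv (by
            have := hχ ⟨s, hs⟩
            rw [h, zero_smul] at this
            exact rho_injective ρ s (this.trans (map_zero _).symm))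
          have h3 : ι ⟨⁅s, (τ q : G)⁆, hL.comm s hs.1 _ (τ q).2⟩ =
              ι ⟨⁅s, (τ q₁ : G)⁆, hL.comm s hs.1 _ (τ q₁).2⟩ := mul_right_cancel₀ hχ0 h2
          have hN2 : ((τ q : G)⁻¹ * (τ q₁ : G)) ∈ N := mul_mem (inv_mem (τ q).2) (τ q₁).2
          have h4 : ι ⟨⁅s, (τ q₁ : G)⁆, hL.comm s hs.1 _ (τ q₁).2⟩ =
              ι ⟨⁅s, (τ q : G)⁆, hL.comm s hs.1 _ (τ q).2⟩ *
                ι ⟨⁅s, ((τ q : G)⁻¹ * (τ q₁ : G))⁆, hL.comm s hs.1 _ hN2⟩ := by
            rw [← map_mul]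
            congr 1
            refine Subtype.ext ?_
            show ⁅s, (τ q₁ : G)⁆ = ⁅s, (τ q : G)⁆ * ⁅s, ((τ q : G))⁻¹ * τ q₁⁆
            rw [← comm_mul_right (hL.leC (τ q).2) (hL.comm s hs.1 _ hN2), mul_inv_cancel_left]
          have h5 : ι ⟨⁅s, ((τ q : G)⁻¹ * (τ q₁ : G))⁆, hL.comm s hs.1 _ hN2⟩ = 1 := by
            rw [← h3] at h4
            refine mul_left_cancel₀ (a := ι ⟨⁅s, (τ q : G)⁆, hL.comm s hs.1 _ (τ q).2⟩) ?_
              (by rw [mul_one]; exact h4.symm)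
            intro h0
            have h1 := hι ⟨⁅s, (τ q : G)⁆, hL.comm s hs.1 _ (τ q).2⟩ v
            rw [h0, zero_smul] at h1
            exact hv (rho_injective ρ _ (h1.trans (map_zero _).symm))
          simpa using congrArg Subtype.val (hιinj _ h5)
        intro q hq
        rcases Finset.mem_insert.1 hq with rfl | hq
        · rw [Finset.sum_eq_zero fun q' hq' => by rw [hrest q' hq', map_zero], add_zero] at hsum
          exact rho_injective ρ _ (hsum.trans (map_zero _).symm)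
        · exact hrest q hq
    exact fun f hf hsum q => key Finset.univ f hf hsum q (Finset.mem_univ q)
  have hind2 : ∀ f f' : (↥N ⧸ A.subgroupOf N) → V, (∀ q, f q ∈ W₀) → (∀ q, f' q ∈ W₀) →
      ∑ q, ρ (τ q : G) (f q) = ∑ q, ρ (τ q : G) (f' q) → ∀ q, f q = f' q := by
    intro f f' hf hf' h q
    refine sub_eq_zero.1 (hind (fun q => f q - f' q) (fun q => sub_mem (hf q) (hf' q)) ?_ q)
    simp only [map_sub, Finset.sum_sub_distrib, h, sub_self]
  -- sums over the cosets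
  have hspan : ∀ U : AddSubgroup V, U ≤ W₀ → U ≠ ⊥ → (∀ a ∈ A, ∀ w ∈ U, ρ a w ∈ U) →
      ∀ x : V, ∃ f : (↥N ⧸ A.subgroupOf N) → V, (∀ q, f q ∈ U) ∧
        x = ∑ q, ρ (τ q : G) (f q) := by
    intro U _ hU0 hUA
    let D : AddSubgroup V :=
      { carrier := {x | ∃ f : (↥N ⧸ A.subgroupOf N) → V, (∀ q, f q ∈ U) ∧
          x = ∑ q, ρ (τ q : G) (f q)}
        zero_mem' := ⟨0, fun _ => U.zero_mem, by simp⟩
        add_mem' := by
          rintro _ _ ⟨f, hf, rfl⟩ ⟨f', hf', rfl⟩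
          exact ⟨f + f', fun q => U.add_mem (hf q) (hf' q), by
            simp [Finset.sum_add_distrib]⟩
        neg_mem' := by
          rintro _ ⟨f, hf, rfl⟩
          exact ⟨-f, fun q => U.neg_mem (hf q), by simp [Finset.sum_neg_distrib]⟩ }
    have hone : ∀ y ∈ N, ∀ w ∈ U, ρ y w ∈ D := by
      intro y hy w hw
      refine ⟨Pi.single ((⟨y, hy⟩ : ↥N) : ↥N ⧸ A.subgroupOf N)
        (ρ ((τ ((⟨y, hy⟩ : ↥N) : ↥N ⧸ A.subgroupOf N) : G)⁻¹ * y) w), fun q => ?_, ?_⟩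
      · by_cases h : q = ((⟨y, hy⟩ : ↥N) : ↥N ⧸ A.subgroupOf N)
        · subst h; rw [Pi.single_eq_same]; exact hUA _ (hdecomp ⟨y, hy⟩) w hw
        · rw [Pi.single_eq_of_ne h]; exact U.zero_mem
      · rw [Finset.sum_eq_single ((⟨y, hy⟩ : ↥N) : ↥N ⧸ A.subgroupOf N)
          (fun q _ h => by rw [Pi.single_eq_of_ne h, map_zero])
          (fun h => absurd (Finset.mem_univ _) h), Pi.single_eq_same, ← rho_mul,
          mul_inv_cancel_left]
    have hD : ∀ y ∈ N, ∀ x ∈ D, ρ y x ∈ D := by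
      rintro y hy _ ⟨f, hf, rfl⟩
      rw [map_sum]
      refine AddSubgroup.sum_mem _ fun q _ => ?_
      rw [← rho_mul]
      exact hone _ (mul_mem hy (τ q).2) _ (hf q)
    obtain ⟨u, hu, hu0⟩ : ∃ u ∈ U, u ≠ 0 := by
      by_contra h
      push Not at h
      exact hU0 ((AddSubgroup.eq_bot_iff_forall U).2 h)
    have hDtop : D = ⊤ := (hirrN D hD).resolve_left fun h => hu0 (by
      have := hone 1 (one_mem _) u hu
      rw [h, rho_one, AddSubgroup.mem_bot] at this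
      exact this)
    intro x
    exact (show x ∈ D by rw [hDtop]; trivial)
  have hW₀top : W₀ ≠ ⊤ := by
    intro h
    refine hs₀Z (hL.nondeg s₀ hs₀.1 fun y hy => ?_)
    rw [← commutatorElement_eq_one_iff_mul_comm]
    have h1 : ∀ w, ρ (s₀ : G) w = χ ⟨s₀, hs₀⟩ • w := fun w =>
      (show w ∈ W₀ by rw [h]; trivial) ⟨s₀, hs₀⟩
    refine hfaith _ (end_ext fun w => ?_)
    show ρ ⁅s₀, y⁆ w = w
    rw [commutatorElement_def, rho_mul, rho_mul, rho_mul, h1, ← hlinN y hy, ← h1, rho_apply_inv,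
      rho_apply_inv]
  have hW₀bot : W₀ ≠ ⊥ := fun h => hv (AddSubgroup.mem_bot.1 (h ▸ hvW))
  let B := setStab ρ W₀
  have hAB : ∀ a ∈ A, a ∈ B := fun a ha => mem_setStab ρ W₀ (hAW a ha)
  let ρW := restr (ρ.comp B.subtype) W₀ (inv_setStab ρ W₀)
  have hirrW : Irr ρW := by
    intro T hT
    by_cases h : T = ⊥
    · exact Or.inl h
    refine Or.inr ?_
    rw [AddSubgroup.eq_top_iff']
    intro w
    have hTA : ∀ a ∈ A, ∀ u ∈ T.map W₀.subtype, ρ a u ∈ T.map W₀.subtype := by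
      rintro a ha _ ⟨u, hu, rfl⟩
      exact ⟨_, hT ⟨a, hAB a ha⟩ u hu, rfl⟩
    have hle : T.map W₀.subtype ≤ W₀ := by rintro _ ⟨u, -, rfl⟩; exact u.2
    obtain ⟨f, hf, hfw⟩ := hspan (T.map W₀.subtype) hle
      (by rwa [Ne, AddSubgroup.map_eq_bot_iff_of_injective _ W₀.subtype_injective]) hTA (w : V)
    have h1 := hind2 (Pi.single 1 (w : V)) f (fun q => by
        by_cases hq : q = 1
        · subst hq; rw [Pi.single_eq_same]; exact w.2
        · rw [Pi.single_eq_of_ne hq]; exact W₀.zero_mem)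
      (fun q => hle (hf q)) (by
        rw [← hfw, Finset.sum_eq_single 1
          (fun q _ hq => by rw [Pi.single_eq_of_ne hq, map_zero])
          (fun h => absurd (Finset.mem_univ _) h), Pi.single_eq_same, hτ1, Subgroup.coe_one,
          rho_one]) 1
    obtain ⟨u, hu, hu'⟩ := hf 1
    rw [Pi.single_eq_same] at h1
    rwa [← Subtype.ext (show (u : V) = w from hu'.trans h1.symm)]
  haveI : Nontrivial W₀ := (AddSubgroup.nontrivial_iff_ne_bot W₀).2 hW₀bot
  have hlt : Nat.card W₀ < Nat.card V :=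
    lt_of_le_of_ne (Nat.le_of_dvd Nat.card_pos (AddSubgroup.card_addSubgroup_dvd_card _))
      fun h => hW₀top (AddSubgroup.eq_top_of_card_eq W₀ h)
  obtain ⟨t, ht0, ht⟩ := exists_triple_ne_zero (ih B W₀ ρW hlt inferInstance hirrW.cr)
  have hw0 : (t 0 : V) ≠ 0 := fun h => ht0 (Subtype.ext h)
  -- a scalar different from zero and one
  obtain ⟨rK, hr0, hr1⟩ : ∃ r : K, r ≠ 0 ∧ r ≠ 1 := by
    obtain ⟨y, hy, hxy⟩ : ∃ y ∈ N, ⁅s₀, y⁆ ≠ 1 := by
      by_contra hne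
      push Not at hne
      exact hs₀Z (hL.nondeg s₀ hs₀.1 fun y hy =>
        commutatorElement_eq_one_iff_mul_comm.1 (hne y hy))
    refine ⟨ι ⟨⁅s₀, y⁆, hL.comm s₀ hs₀.1 y hy⟩, fun h => ?_,
      fun h => hxy (congrArg Subtype.val (hιinj _ h))⟩
    have h1 := hι ⟨⁅s₀, y⁆, hL.comm s₀ hs₀.1 y hy⟩ v
    rw [h, zero_smul] at h1
    exact hv (rho_injective ρ _ (h1.trans (map_zero _).symm))
  obtain ⟨col, hcol0, hcol⟩ := exists_colour_comm (↥N ⧸ A.subgroupOf N)
  let f₁ : (↥N ⧸ A.subgroupOf N) → V := fun q =>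
    if q = 1 then (t 1 : V) else (dirs rK (col q)).1 • (t 0 : V)
  let f₂ : (↥N ⧸ A.subgroupOf N) → V := fun q =>
    if q = 1 then (t 2 : V) else (dirs rK (col q)).2 • (t 0 : V)
  have hf₁ : ∀ q, f₁ q ∈ W₀ := fun q => by
    simp only [f₁]; split_ifs; exacts [(t 1).2, hW₀smul _ _ (t 0).2]
  have hf₂ : ∀ q, f₂ q ∈ W₀ := fun q => by
    simp only [f₂]; split_ifs; exacts [(t 2).2, hW₀smul _ _ (t 0).2]
  refine ⟨![(t 0 : V), ∑ q, ρ (τ q : G) (f₁ q), ∑ q, ρ (τ q : G) (f₂ q)], fun g hg => ?_⟩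
  have hg0 : ρ g (t 0 : V) = t 0 := hg 0
  -- elements fixing the first vector normalize everything
  have hSg : ∀ h : G, ρ h (t 0 : V) = t 0 → ∀ s ∈ S v, h * s * h⁻¹ ∈ S v := by
    intro h hh s hs
    refine hSeq _ (t 0).2 hw0 _ (hL.normal.conj_mem s hs.1 h) ⟨σ h (χ ⟨s, hs⟩), ?_⟩
    rw [rho_mul, rho_mul, fix_inv hh, (t 0).2 ⟨s, hs⟩, hσ, hh]
  have hWg : ∀ w ∈ W₀, ρ g w ∈ W₀ := by
    intro w hw s
    have hs' : g⁻¹ * (s : G) * g ∈ S v := by
      simpa using hSg g⁻¹ (fix_inv hg0) s s.2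
    have e : (s : G) * g = g * (g⁻¹ * s * g) := by simp [mul_assoc]
    have h1 : ∀ w ∈ W₀, ρ (s : G) (ρ g w) = σ g (χ ⟨_, hs'⟩) • ρ g w := fun w hw => by
      rw [← rho_mul, e, rho_mul, hw ⟨_, hs'⟩, hσ]
    have h2 := h1 _ (t 0).2
    rw [hg0, (t 0).2 s] at h2
    rw [h1 w hw, smul_left_injective K hw0 h2]
  have hgB : g ∈ B := mem_setStab ρ W₀ hWg
  have hAg : ∀ h : G, ρ h (t 0 : V) = t 0 → ∀ y ∈ A, h * y * h⁻¹ ∈ A := by
    intro h hh y hy
    refine hA (hL.normal.conj_mem y hy.1 h) fun s hs => ?_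
    have hs' : h⁻¹ * s * h ∈ S v := by simpa using hSg h⁻¹ (fix_inv hh) s hs
    have e : ⁅s, h * y * h⁻¹⁆ = h * ⁅h⁻¹ * s * h, y⁆ * h⁻¹ := by
      simp [commutatorElement_def, mul_assoc]
    rw [e, hA' hy _ hs', mul_one, mul_inv_cancel]
  let cg : ↥N →* ↥N :=
    { toFun := fun y => ⟨g * y * g⁻¹, hL.normal.conj_mem y y.2 g⟩
      map_one' := Subtype.ext (by simp)
      map_mul' := fun a b => Subtype.ext (by simp [mul_assoc]) }
  let π : (↥N ⧸ A.subgroupOf N) →* (↥N ⧸ A.subgroupOf N) :=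
    QuotientGroup.map _ _ cg fun y hy => by
      rw [Subgroup.mem_comap, Subgroup.mem_subgroupOf]
      exact hAg g hg0 y hy
  have hπmk : ∀ y : ↥N, π (y : ↥N ⧸ A.subgroupOf N) = (cg y : ↥N ⧸ A.subgroupOf N) :=
    fun y => rfl
  have hπinj : Function.Injective π := by
    refine (injective_iff_map_eq_one π).2 fun q hq => ?_
    rw [← hτ q, hπmk, QuotientGroup.eq_one_iff, Subgroup.mem_subgroupOf] at hq
    have h2 := hAg g⁻¹ (fix_inv hg0) _ hq
    rw [← hτ q, QuotientGroup.eq_one_iff, Subgroup.mem_subgroupOf]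
    simpa [cg, mul_assoc] using h2
  have hπbij : Function.Bijective π := Finite.injective_iff_bijective.1 hπinj
  let aq : (↥N ⧸ A.subgroupOf N) → G := fun q => ((τ (π q) : G))⁻¹ * (g * τ q * g⁻¹)
  have haq : ∀ q, aq q ∈ A := by
    intro q
    have h := hdecomp (cg (τ q))
    rwa [← hπmk, hτ q] at h
  have hfix : ∀ f : (↥N ⧸ A.subgroupOf N) → V, (∀ q, f q ∈ W₀) →
      ρ g (∑ q, ρ (τ q : G) (f q)) = ∑ q, ρ (τ q : G) (f q) →
      ∀ q, ρ (aq q) (ρ g (f q)) = f (π q) := by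
    intro f hf h
    have h1 : ρ g (∑ q, ρ (τ q : G) (f q)) =
        ∑ q, ρ (τ (π q) : G) (ρ (aq q) (ρ g (f q))) := by
      rw [map_sum]
      refine Finset.sum_congr rfl fun q _ => ?_
      rw [← rho_mul, ← rho_mul, ← rho_mul]
      congr 2
      simp [aq, mul_assoc]
    let e : (↥N ⧸ A.subgroupOf N) ≃ (↥N ⧸ A.subgroupOf N) := Equiv.ofBijective π hπbij
    let f' : (↥N ⧸ A.subgroupOf N) → V := fun p => ρ (aq (e.symm p)) (ρ g (f (e.symm p)))
    have h2 : ∑ p, ρ (τ p : G) (f' p) = ∑ q, ρ (τ q : G) (f q) := by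
      rw [← h, h1, ← e.sum_comp]
      refine Finset.sum_congr rfl fun q _ => ?_
      show ρ (τ (π q) : G) (ρ (aq (e.symm (e q))) (ρ g (f (e.symm (e q))))) = _
      rw [e.symm_apply_apply]
    intro q
    have h3 := hind2 f' f (fun p => hAW _ (haq _) _ (hWg _ (hf _))) hf h2 (e q)
    simp only [f', e.symm_apply_apply] at h3
    exact h3
  have haq1 : aq 1 = 1 := by simp [aq, hτ1]
  have hg1 : ρ g (t 1 : V) = t 1 := by
    have h := hfix f₁ hf₁ (hg 1) 1
    simpa [f₁, map_one π, haq1] using h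
  have hg2 : ρ g (t 2 : V) = t 2 := by
    have h := hfix f₂ hf₂ (hg 2) 1
    simpa [f₂, map_one π, haq1] using h
  have hid : ∀ w ∈ W₀, ρ g w = w := fun w hw => congrArg Subtype.val
    (DFunLike.congr_fun (ht ⟨g, hgB⟩ fun k => Subtype.ext (by
      fin_cases k
      exacts [hg0, hg1, hg2])) (⟨w, hw⟩ : W₀))
  have hdir : ∀ q, q ≠ 1 → col (π q) = col q ∧ ρ (aq q) (t 0 : V) = t 0 := by
    intro q hq
    have hπq : π q ≠ 1 := fun h => hq (hπinj (h.trans (map_one π).symm))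
    have h1 : (dirs rK (col q)).1 • ρ (aq q) (t 0 : V) = (dirs rK (col (π q))).1 • (t 0 : V) := by
      have h := hfix f₁ hf₁ (hg 1) q
      simp only [f₁, if_neg hq, if_neg hπq] at h
      rwa [hid _ (hW₀smul _ _ (t 0).2), hlinN _ (haq q).1] at h
    have h2 : (dirs rK (col q)).2 • ρ (aq q) (t 0 : V) = (dirs rK (col (π q))).2 • (t 0 : V) := by
      have h := hfix f₂ hf₂ (hg 2) q
      simp only [f₂, if_neg hq, if_neg hπq] at h
      rwa [hid _ (hW₀smul _ _ (t 0).2), hlinN _ (haq q).1] at h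
    have hne : (dirs rK (col q)).1 ≠ 0 ∨ (dirs rK (col q)).2 ≠ 0 := by
      have hc : col q ≠ 0 := fun h => hq ((hcol0 q).1 h)
      revert hc
      generalize col q = i
      intro hc
      fin_cases i <;> first | exact absurd rfl hc | simp [dirs]
    obtain ⟨l, hl⟩ : ∃ l : K, ρ (aq q) (t 0 : V) = l • (t 0 : V) := by
      rcases hne with h | h
      · exact ⟨(dirs rK (col q)).1⁻¹ * (dirs rK (col (π q))).1, by
          rw [mul_smul, ← h1, inv_smul_smul₀ h]⟩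
      · exact ⟨(dirs rK (col q)).2⁻¹ * (dirs rK (col (π q))).2, by
          rw [mul_smul, ← h2, inv_smul_smul₀ h]⟩
    have hl0 : l ≠ 0 := fun h => hw0 (rho_injective ρ (aq q)
      (by rw [hl, h, zero_smul, map_zero]))
    rw [hl, smul_smul] at h1 h2
    have e1 := smul_left_injective K hw0 h1
    have e2 := smul_left_injective K hw0 h2
    obtain ⟨hcq, hlone⟩ := dirs_eq (i := col (π q)) (j := col q) hr0 hr1 hl0
      (by rw [← e1, mul_comm]) (by rw [← e2, mul_comm])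
    exact ⟨hcq, by rw [hl, hlone fun h => hq ((hcol0 q).1 h), one_smul]⟩
  have hπid : ∀ q, π q = q := hcol π hπinj fun q => by
    by_cases hq : q = 1
    · rw [hq, map_one]
    · exact (hdir q hq).1
  have hmain : ∀ q, ∀ w ∈ W₀, ρ g (ρ (τ q : G) w) = ρ (τ q : G) w := by
    intro q w hw
    have h1 : ρ (aq q) (t 0 : V) = t 0 := by
      by_cases hq : q = 1
      · rw [hq, haq1, rho_one]
      · exact (hdir q hq).2
    have hS : aq q ∈ S v := hSeq _ (t 0).2 hw0 _ (haq q).1 ⟨1, by rw [one_smul]; exact h1⟩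
    have hχ1 : χ ⟨aq q, hS⟩ = 1 := heq1 hw0 (((t 0).2 ⟨aq q, hS⟩).symm.trans h1)
    have h2 : ρ (aq q) w = w := by rw [hw ⟨aq q, hS⟩, hχ1, one_smul]
    have e : g * (τ q : G) = (τ q : G) * aq q * g := by
      simp [aq, hπid, mul_assoc]
    rw [← rho_mul, e, rho_mul, rho_mul, hid w hw, h2]
  refine end_ext fun x => ?_
  obtain ⟨f, hf, rfl⟩ := hspan W₀ le_rfl hW₀bot hAW x
  show ρ g (∑ q, ρ (τ q : G) (f q)) = ∑ q, ρ (τ q : G) (f q)
  rw [map_sum]
  exact Finset.sum_congr rfl fun q _ => hmain q (f q) (hf q)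

end Scalars

end CfsgLib.SolBase
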