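import Cfsg.Agent.Lib.SolBase.Five
import Cfsg.Agent.Lib.PSqOne.Dichotomy

/-!
# Asymmetric five-colourings of solvable permutation groups

Every solvable group acting on a finite set has a five-colouring which only elements acting
trivially preserve. The primitive case is that of the holomorph of an abelian group, where five
colours pin down every automorphism.
-/

set_option autoImplicit false
set_option linter.style.haveILetI false
set_option linter.unusedSectionVars false

namespace CfsgLib.SolBase

open scoped Classical Pointwise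
open MulAction

universe u

/-- Five colours of a finite abelian group which no non-trivial automorphism preserves. -/
theorem exists_colour_comm (Q : Type*) [CommGroup Q] [Finite Q] :
    ∃ col : Q → Fin 5, (∀ q, col q = 0 ↔ q = 1) ∧
      ∀ L : Q →* Q, Function.Injective L → (∀ q, col (L q) = col q) → ∀ q, L q = q := by
  obtain ⟨ι, _, n, hn, ⟨f⟩⟩ := CommGroup.equiv_prod_multiplicative_zmod_of_finite Q
  obtain ⟨σ⟩ : Nonempty (Fin (Fintype.card ι) ≃ ι) := ⟨(Fintype.equivFin ι).symm⟩
  generalize Fintype.card ι = k at σ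
  let e : ℕ → Q := fun i =>
    if h : i < k then f.symm (Pi.mulSingle (σ ⟨i, h⟩) (Multiplicative.ofAdd 1)) else 1
  let P : Q → ℕ → Prop := fun q j => ∃ h : j < k, f q (σ ⟨j, h⟩) ≠ 1
  have hone : ∀ j, Multiplicative.ofAdd (1 : ZMod (n j)) ≠ 1 := fun j => by
    haveI : Fact (1 < n j) := ⟨hn j⟩
    intro h
    have h1 : (1 : ZMod (n j)) = 0 := congrArg Multiplicative.toAdd h
    exact one_ne_zero h1
  have hfe : ∀ i (hi : i < k), f (e i) = Pi.mulSingle (σ ⟨i, hi⟩) (Multiplicative.ofAdd 1) := by
    intro i hi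
    simp [e, hi]
  have hoff : ∀ i (hi : i < k) j (hj : j < k), j ≠ i → f (e i) (σ ⟨j, hj⟩) = 1 := by
    intro i hi j hj hne
    rw [hfe i hi]
    exact Pi.mulSingle_eq_of_ne (fun h => hne (congrArg Fin.val (σ.injective h))) _
  have hon : ∀ i (hi : i < k), f (e i) (σ ⟨i, hi⟩) ≠ 1 := by
    intro i hi
    rw [hfe i hi, Pi.mulSingle_eq_same]
    exact hone _
  have hP1 : ∀ i, i < k → ∀ j, P (e i) j ↔ j = i := by
    intro i hi j
    refine ⟨fun ⟨hj, h⟩ => by_contra fun hne => h (hoff i hi j hj hne), ?_⟩
    rintro rfl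
    exact ⟨hi, hon j hi⟩
  have hP2 : ∀ i m, i < k → m < k → i ≠ m → ∀ j, P (e i * e m) j ↔ j = i ∨ j = m := by
    intro i m hi hm him j
    refine ⟨fun ⟨hj, h⟩ => ?_, ?_⟩
    · by_contra hc
      rw [not_or] at hc
      exact h (by rw [map_mul, Pi.mul_apply, hoff i hi j hj hc.1, hoff m hm j hj hc.2, one_mul])
    · rintro (rfl | rfl)
      · exact ⟨hi, by rw [map_mul, Pi.mul_apply, hoff m hm j hi him, mul_one]; exact hon j hi⟩
      · exact ⟨hm, by rw [map_mul, Pi.mul_apply, hoff i hi j hm him.symm, one_mul]; exact hon j hm⟩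
  have hne1 : ∀ i, i < k → e i ≠ 1 := fun i hi h => hon i hi (by rw [h, map_one, Pi.one_apply])
  have hinj : ∀ i m, i < k → m < k → e i = e m → i = m := fun i m hi hm h =>
    (hP1 m hm i).1 (h ▸ (hP1 i hi i).2 rfl)
  have hpair1 : ∀ i, i + 1 < k → e i * e (i + 1) ≠ 1 := by
    intro i hi h
    obtain ⟨h', h''⟩ := (hP2 i (i + 1) (by omega) hi (by omega) i).2 (Or.inl rfl)
    exact h'' (by rw [h, map_one, Pi.one_apply])
  have hpair : ∀ i m, i + 1 < k → m < k → e i * e (i + 1) ≠ e m := by
    intro i m hi hm h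
    have h1 := (hP1 m hm i).1 (h ▸ (hP2 i (i + 1) (by omega) hi (by omega) i).2 (Or.inl rfl))
    have h2 := (hP1 m hm (i + 1)).1 (h ▸ (hP2 i (i + 1) (by omega) hi (by omega) _).2 (Or.inr rfl))
    omega
  let col : Q → Fin 5 := fun q => if q = 1 then 0 else if q = e 0 then 1
    else if ∃ i, i < k ∧ q = e i then 2 else if ∃ i, i + 1 < k ∧ q = e i * e (i + 1) then 3 else 4
  have hc1 : ∀ q, col q = 1 → q = e 0 := fun q h => by
    simp only [col] at h
    split_ifs at h with a b <;> first | exact b | exact absurd h (by decide)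
  have hc2 : ∀ q, col q = 2 → ∃ i, i < k ∧ q = e i := fun q h => by
    simp only [col] at h
    split_ifs at h with a b c <;> first | exact c | exact absurd h (by decide)
  have hc3 : ∀ q, col q = 3 → ∃ i, i + 1 < k ∧ q = e i * e (i + 1) := fun q h => by
    simp only [col] at h
    split_ifs at h with a b c d <;> first | exact d | exact absurd h (by decide)
  refine ⟨col, fun q => ⟨fun h => ?_, fun h => if_pos h⟩, fun L hL hcol => ?_⟩
  · simp only [col] at h
    split_ifs at h with a b c d <;> first | exact a | exact absurd h (by decide)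
  have hfix : ∀ i, i < k → L (e i) = e i := by
    intro i
    induction i using Nat.strong_induction_on with
    | _ i ih =>
      intro hi
      rcases i with _ | i
      · refine hc1 _ ?_
        rw [hcol]
        simp [col, hne1 0 hi]
      · have h2 : col (e (i + 1)) = 2 := by
          have hz : e (i + 1) ≠ e 0 := fun h => absurd (hinj _ _ hi (by omega) h) (by omega)
          have hex : ∃ j, j < k ∧ e (i + 1) = e j := ⟨i + 1, hi, rfl⟩
          simp only [col, if_neg (hne1 _ hi), if_neg hz, if_pos hex]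
        have h3 : col (e i * e (i + 1)) = 3 := by
          have hnot : ¬ ∃ j, j < k ∧ e i * e (i + 1) = e j := fun ⟨j, hj, h⟩ => hpair i j hi hj h
          have hex : ∃ j, j + 1 < k ∧ e i * e (i + 1) = e j * e (j + 1) := ⟨i, hi, rfl⟩
          simp only [col, if_neg (hpair1 i hi), if_neg (hpair i 0 hi (by omega)), if_neg hnot,
            if_pos hex]
        obtain ⟨m, hm, hme⟩ := hc2 _ ((hcol _).trans h2)
        obtain ⟨j, hj, hje⟩ := hc3 _ ((hcol _).trans h3)
        have hmi : i < m := by
          by_contra hc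
          have h4 := hL (hme.trans (ih m (by omega) hm).symm)
          exact absurd (hinj _ _ hi hm h4) (by omega)
        rw [map_mul, ih i (by omega) (by omega), hme] at hje
        have a1 := (hP2 j (j + 1) (by omega) hj (by omega) i).1
          (hje ▸ (hP2 i m (by omega) hm (by omega) i).2 (Or.inl rfl))
        have a2 := (hP2 j (j + 1) (by omega) hj (by omega) m).1
          (hje ▸ (hP2 i m (by omega) hm (by omega) m).2 (Or.inr rfl))
        rw [hme, show m = i + 1 by omega]
  intro q
  have key : (f.toMonoidHom.comp (L.comp f.symm.toMonoidHom)) = MonoidHom.id _ := by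
    refine MonoidHom.functions_ext' _ _ _ fun j => MonoidHom.ext fun z => ?_
    haveI : NeZero (n j) := ⟨by have := hn j; omega⟩
    obtain ⟨i, rfl⟩ := σ.surjective j
    have hz : z = Multiplicative.ofAdd (1 : ZMod (n (σ i))) ^ (Multiplicative.toAdd z).val := by
      apply Multiplicative.toAdd.injective
      simp
    rw [hz, map_pow, map_pow]
    congr 1
    show f (L (f.symm (Pi.mulSingle (σ i) _))) = Pi.mulSingle (σ i) _
    have h := hfix i i.2
    have he : e i = f.symm (Pi.mulSingle (σ i) (Multiplicative.ofAdd 1)) := by simp [e]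
    rw [he] at h
    rw [h, MulEquiv.apply_symm_apply]
  have := DFunLike.congr_fun key (f q)
  simpa using this

/-- The primitive case. -/
theorem colour_primitive {G : Type u} [Group G] [Group.IsSolvable G] {Ω : Type u} [MulAction G Ω]
    [Finite Ω] (hprim : IsPreprimitive G Ω) (ω : Ω) :
    ∃ c : Ω → Fin 5, ∀ g : G, (∀ x, c (g • x) = c x) → ∀ x : Ω, g • x = x := by
  let φ := MulAction.toPermHom G Ω
  haveI : Group.IsSolvable φ.range := Group.isSolvable_of_surjective φ.rangeRestrict_surjective
  haveI : FaithfulSMul φ.range Ω := ⟨fun {a b} h => Subtype.ext (Equiv.ext fun x => h x)⟩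
  haveI hp' : IsPreprimitive φ.range Ω :=
    IsPreprimitive.of_surjective (f := (⟨id, fun g x => rfl⟩ :
      Ω →ₑ[φ.rangeRestrict] Ω)) Function.surjective_id
  by_cases htriv : ∀ g : G, φ g = 1
  · exact ⟨fun _ => 0, fun g _ x => DFunLike.congr_fun (htriv g) x⟩
  push Not at htriv
  obtain ⟨g₀, hg₀⟩ := htriv
  haveI : Nontrivial φ.range :=
    ⟨⟨⟨φ g₀, g₀, rfl⟩, 1, fun h => hg₀ (congrArg Subtype.val h)⟩⟩
  obtain ⟨N, hN, hNbot, hNc⟩ := CfsgLib.PSqOne.exists_normal_abelian
    (R := φ.range) inferInstance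
  haveI := hN
  have hNfix : fixedPoints N Ω ≠ Set.univ := by
    intro h
    refine hNbot ((Subgroup.eq_bot_iff_forall _).2 fun a ha => Subtype.ext (Equiv.ext fun x => ?_))
    exact (show x ∈ fixedPoints N Ω by rw [h]; trivial) ⟨a, ha⟩
  haveI : IsPretransitive N Ω :=
    IsQuasiPreprimitive.isPretransitive_of_normal hNfix
  letI : CommGroup N := { (inferInstance : Group N) with
    mul_comm := fun a b => Subtype.ext (hNc a a.2 b b.2) }
  obtain ⟨col, hcol0, hcol⟩ := exists_colour_comm N
  have hfree : ∀ a b : N, a • ω = b • ω → a = b := by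
    intro a b h
    refine eq_of_smul_eq_smul fun x : Ω => ?_
    obtain ⟨m, rfl⟩ := exists_smul_eq N ω x
    rw [← mul_smul, ← mul_smul, mul_comm a, mul_comm b, mul_smul, mul_smul, h]
  choose ν hν using fun x : Ω => exists_smul_eq N ω x
  refine ⟨fun x => col (ν x), fun g hg => ?_⟩
  let γ : φ.range := φ.rangeRestrict g
  have hνm : ∀ a : N, ν (a • ω) = a := fun a => hfree _ _ (hν _)
  have hgω : g • ω = ω := by
    have h := hg ω
    have h1 : ν ω = 1 := hfree _ _ (by rw [hν, one_smul])
    simp only at h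
    rw [h1, (hcol0 1).2 rfl, hcol0] at h
    rw [← hν (g • ω), h, one_smul]
  let L : N →* N :=
    { toFun := fun a => ⟨γ * a * γ⁻¹, hN.conj_mem _ a.2 γ⟩
      map_one' := Subtype.ext (by simp)
      map_mul' := fun a b => Subtype.ext (by simp [mul_assoc]) }
  have hLinj : Function.Injective L := fun a b h => by
    have h' : γ * (a : φ.range) * γ⁻¹ = γ * b * γ⁻¹ := congrArg Subtype.val h
    exact Subtype.ext (mul_left_cancel (mul_right_cancel h'))
  have hmove : ∀ a : N, g • (a • ω) = L a • ω := by
    intro a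
    show γ • ((a : φ.range) • ω) = (γ * (a : φ.range) * γ⁻¹) • ω
    have h1 : γ⁻¹ • ω = ω := inv_smul_eq_iff.2 hgω.symm
    rw [mul_smul, mul_smul, h1]
  have hid := hcol L hLinj fun a => by
    have h := hg (a • ω)
    simp only at h
    rwa [hmove, hνm, hνm] at h
  intro x
  conv_lhs => rw [← hν x, hmove, hid, hν]

theorem colour_aux (n : ℕ) : ∀ (G : Type u) [Group G] (Ω : Type u) [MulAction G Ω]
    [Finite Ω], Nat.card Ω = n → Group.IsSolvable G →
    ∃ s : Ω → Fin 5, ∀ g : G, (∀ x, s (g • x) = s x) → ∀ x : Ω, g • x = x := by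
  induction n using Nat.strong_induction_on with
  | _ n ih =>
  intro G _ Ω _ _ hn hsol
  rcases Nat.lt_or_ge n 2 with h1 | h2
  · haveI : Subsingleton Ω := Finite.card_le_one_iff_subsingleton.mp (by omega)
    exact ⟨fun _ => 0, fun g _ x => Subsingleton.elim _ _⟩
  obtain ⟨ω⟩ : Nonempty Ω := (Nat.card_pos_iff.mp (by omega)).1
  by_cases htr : IsPretransitive G Ω
  · by_cases hprim : IsPreprimitive G Ω
    · exact colour_primitive hprim ω
    · -- a non-trivial block
      obtain ⟨B, hB, hBnt⟩ : ∃ B : Set Ω, IsBlock G B ∧ ¬ IsTrivialBlock B := by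
        by_contra hc
        push Not at hc
        exact hprim { htr with isTrivialBlock_of_isBlock := fun {B} hB => hc B hB }
      simp only [IsTrivialBlock, not_or, Set.not_subsingleton_iff] at hBnt
      obtain ⟨b₀, hb₀⟩ := hBnt.1.nonempty
      let S := stabilizer G B
      have hBlt : Nat.card B < n := by
        rw [← hn, ← Nat.card_univ (α := Ω)]
        exact Set.Finite.card_lt_card Set.finite_univ (Set.ssubset_univ_iff.mpr hBnt.2)
      have huniq : ∀ (g g' : G) (b b' : Ω), b ∈ B → b' ∈ B → g • b = g' • b' →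
          (g : G ⧸ S) = (g' : G ⧸ S) := by
        intro g g' b b' hb hb' e
        refine QuotientGroup.eq.mpr ?_
        rw [mem_stabilizer_iff, mul_smul, inv_smul_eq_iff]
        exact (isBlock_iff_smul_eq_smul_of_nonempty.mp hB
          ⟨g • b, Set.smul_mem_smul_set hb, e ▸ Set.smul_mem_smul_set hb'⟩).symm
      have hexist : ∀ x : Ω, ∃ q : G ⧸ S, q.out⁻¹ • x ∈ B := by
        intro x
        obtain ⟨g, hg⟩ := exists_smul_eq G b₀ x
        refine ⟨(g : G ⧸ S), ?_⟩
        obtain ⟨s, hs⟩ := QuotientGroup.mk_out_eq_mul S g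
        rw [hs, mul_inv_rev, mul_smul, ← hg, inv_smul_smul]
        have hsB : ((s : G)⁻¹) • B = B := mem_stabilizer_iff.mp (S.inv_mem s.2)
        rw [← hsB]
        exact Set.smul_mem_smul_set hb₀
      choose qo hqo using hexist
      have hsurj : Function.Surjective qo := by
        intro q
        refine ⟨q.out • b₀, ?_⟩
        have := huniq (qo (q.out • b₀)).out q.out _ b₀ (hqo _) hb₀ (smul_inv_smul _ _)
        rwa [QuotientGroup.out_eq', QuotientGroup.out_eq'] at this
      haveI : Finite (G ⧸ S) := Finite.of_surjective qo hsurj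
      have hIlt : Nat.card (G ⧸ S) < n := by
        rw [← hn]
        haveI := Fintype.ofFinite (G ⧸ S)
        haveI := Fintype.ofFinite Ω
        rw [Nat.card_eq_fintype_card, Nat.card_eq_fintype_card]
        refine lt_of_le_of_ne (Fintype.card_le_of_surjective _ hsurj) fun e => ?_
        obtain ⟨b₁, hb₁, hne⟩ := hBnt.1.exists_ne b₀
        refine hne (((Fintype.bijective_iff_surjective_and_card qo).mpr ⟨hsurj, e.symm⟩).1 ?_)
        have e1 := huniq (qo b₁).out (1 : G) _ b₁ (hqo b₁) hb₁ (by rw [smul_inv_smul, one_smul])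
        have e2 := huniq (qo b₀).out (1 : G) _ b₀ (hqo b₀) hb₀ (by rw [smul_inv_smul, one_smul])
        rw [QuotientGroup.out_eq'] at e1 e2
        rw [e1, e2]
      letI : MulAction S B :=
        { smul := fun s b => ⟨(s : G) • (b : Ω), by
            have hs : (s : G) • B = B := mem_stabilizer_iff.mp s.2
            have h := (Set.smul_mem_smul_set b.2 : (s : G) • (b : Ω) ∈ (s : G) • B)
            rwa [hs] at h⟩
          one_smul := fun b => Subtype.ext (one_smul G b.1)
          mul_smul := fun s t b => Subtype.ext (mul_smul (s : G) t b.1) }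
      haveI : Nonempty B := ⟨⟨b₀, hb₀⟩⟩
      obtain ⟨C, hC, hCC⟩ := five_colourings (ih (Nat.card B) hBlt S B rfl inferInstance)
      obtain ⟨sI, hsI⟩ := ih (Nat.card (G ⧸ S)) hIlt G (G ⧸ S) rfl hsol
      let col : G ⧸ S → B → Fin 5 := fun q b => C (sI q) b
      refine ⟨fun x => col (qo x) ⟨(qo x).out⁻¹ • x, hqo x⟩, fun g hg => ?_⟩
      -- `g` maps the block `q` to the block `g • q`
      have hmap : ∀ q : G ⧸ S, (g • q).out⁻¹ * g * q.out ∈ S := by
        intro q
        rw [mul_assoc, ← QuotientGroup.eq, QuotientGroup.out_eq']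
        conv_lhs => rw [← QuotientGroup.out_eq' q]
        rfl
      have hqo_smul : ∀ (q : G ⧸ S) (b : B), qo (q.out • (b : Ω)) = q := by
        intro q b
        have := huniq (qo (q.out • (b : Ω))).out q.out _ b (hqo _) b.2 (smul_inv_smul _ _)
        rwa [QuotientGroup.out_eq', QuotientGroup.out_eq'] at this
      have hval : ∀ (q : G ⧸ S) (b : B),
          col (qo (q.out • (b : Ω))) ⟨(qo (q.out • (b : Ω))).out⁻¹ • (q.out • (b : Ω)), hqo _⟩ =
            col q b := by
        intro q b
        have e := hqo_smul q b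
        congr 1
        exact Subtype.ext (by simp [e])
      have hkey : ∀ (q : G ⧸ S) (b : B), col (g • q) ((⟨_, hmap q⟩ : S) • b) = col q b := by
        intro q b
        have h := hg (q.out • (b : Ω))
        simp only at h
        rw [hval] at h
        have e : g • q.out • (b : Ω) = (g • q).out • (((⟨_, hmap q⟩ : S) • b : B) : Ω) := by
          show _ = (g • q).out • (((g • q).out⁻¹ * g * q.out) • (b : Ω))
          simp [mul_smul]
        rw [e, hval] at h
        exact h
      have hI : ∀ q, sI (g • q) = sI q := fun q =>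
        (hCC (sI q) (sI (g • q)) ⟨_, hmap q⟩ (hkey q)).symm
      intro x
      have hq := hsI g hI (qo x)
      let b : B := ⟨(qo x).out⁻¹ • x, hqo x⟩
      have h4 : ∀ b', C (sI (qo x)) ((⟨_, hmap (qo x)⟩ : S) • b') = C (sI (qo x)) b' := by
        intro b'
        have h := hkey (qo x) b'
        simp only [col, hI] at h
        exact h
      have h5 := congrArg Subtype.val (hC _ _ h4 b)
      change ((g • qo x).out⁻¹ * g * (qo x).out) • ((qo x).out⁻¹ • x) = (qo x).out⁻¹ • x at h5
      rw [hq, mul_smul, mul_smul, smul_inv_smul, smul_left_cancel_iff] at h5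
      exact h5
  · -- intransitive
    let Δ := orbit G ω
    have hΔ : ∀ (g : G) (x : Ω), g • x ∈ Δ ↔ x ∈ Δ := fun g x => by
      simp only [Δ, ← orbit_eq_iff, orbit_smul]
    letI : MulAction G {x : Ω // x ∈ Δ} :=
      { smul := fun g x => ⟨g • x.1, (hΔ g x.1).mpr x.2⟩
        one_smul := fun x => Subtype.ext (one_smul G x.1)
        mul_smul := fun g h x => Subtype.ext (mul_smul g h x.1) }
    letI : MulAction G {x : Ω // x ∉ Δ} :=
      { smul := fun g x => ⟨g • x.1, fun h => x.2 ((hΔ g x.1).mp h)⟩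
        one_smul := fun x => Subtype.ext (one_smul G x.1)
        mul_smul := fun g h x => Subtype.ext (mul_smul g h x.1) }
    obtain ⟨y, hy⟩ : ∃ y, y ∉ Δ := by
      by_contra hc
      push Not at hc
      exact htr ⟨fun a b => by
        obtain ⟨c, hc'⟩ := hc a
        obtain ⟨d, hd⟩ := hc b
        exact ⟨d * c⁻¹, by rw [← hc', ← hd, mul_smul, inv_smul_smul]⟩⟩
    have h1 : Nat.card {x : Ω // x ∈ Δ} < n := hn ▸ Finite.card_subtype_lt hy
    have h2' : Nat.card {x : Ω // x ∉ Δ} < n :=
      hn ▸ Finite.card_subtype_lt (x := ω) (not_not.mpr (mem_orbit_self ω))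
    obtain ⟨s₁, hs₁⟩ := ih _ h1 G {x : Ω // x ∈ Δ} rfl hsol
    obtain ⟨s₂, hs₂⟩ := ih _ h2' G {x : Ω // x ∉ Δ} rfl hsol
    refine ⟨fun x => if h : x ∈ Δ then s₁ ⟨x, h⟩ else s₂ ⟨x, h⟩, fun g hg x => ?_⟩
    by_cases hx : x ∈ Δ
    · refine congrArg Subtype.val (hs₁ g (fun z => ?_) ⟨x, hx⟩)
      have := hg z.1
      simp only [z.2, (hΔ g z.1).mpr z.2, dite_true] at this
      exact this
    · refine congrArg Subtype.val (hs₂ g (fun z => ?_) ⟨x, hx⟩)
      have := hg z.1
      have hz : g • z.1 ∉ Δ := fun h => z.2 ((hΔ g z.1).mp h)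
      simp only [z.2, hz, dite_false] at this
      exact this

/-- Every solvable permutation group has an asymmetric five-colouring. -/
theorem exists_colouring {G : Type u} [Group G] [Group.IsSolvable G] {Ω : Type u} [MulAction G Ω]
    [Finite Ω] : ∃ s : Ω → Fin 5, ∀ g : G, (∀ x, s (g • x) = s x) → ∀ x : Ω, g • x = x :=
  colour_aux (Nat.card Ω) G Ω rfl inferInstance

end CfsgLib.SolBase
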