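import Mathlib
import Cfsg.Agent.Lib.OddBase.Reduce
import Cfsg.Agent.Lib.Linear.Transvection

/-!
# Five orbits from one

If a solvable group has one regular point among five-colourings or among triples of vectors, it
has five inequivalent ones: a solvable subgroup of `A₅` or of `SL₃(p)` has index at least five.
-/

set_option autoImplicit false
set_option linter.style.haveILetI false
set_option linter.unusedSectionVars false

namespace CfsgLib.SolBase

open CfsgLib.OddBase
open scoped commutatorElement

universe u

/-- `S₄` is solvable. -/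
theorem isSolvable_perm_four : Group.IsSolvable (Equiv.Perm (Fin 4)) := by
  haveI h4 : Group.IsSolvable (alternatingGroup (Fin 4)) := by
    refine (Group.isSolvable_def _).2 ⟨2, ?_⟩
    rw [derivedSeries_succ, derivedSeries_one]
    rw [Subgroup.eq_bot_iff_forall]
    intro x hx
    have hV : commutator (alternatingGroup (Fin 4)) ≤
        { carrier := {g | g * g = 1}
          one_mem' := one_mul 1
          mul_mem' := fun {a b} ha hb => by revert a b; decide +kernel
          inv_mem' := fun {a} ha => by revert a; decide +kernel } := by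
      rw [commutator_def, Subgroup.commutator_le]
      intro a _ b _
      have key : ∀ a b : alternatingGroup (Fin 4), ⁅a, b⁆ * ⁅a, b⁆ = 1 := by decide +kernel
      exact key a b
    have hab : ∀ a ∈ commutator (alternatingGroup (Fin 4)),
        ∀ b ∈ commutator (alternatingGroup (Fin 4)), ⁅a, b⁆ ∈ (⊥ : Subgroup _) := by
      intro a ha b hb
      have key : ∀ a b : alternatingGroup (Fin 4), a * a = 1 → b * b = 1 → ⁅a, b⁆ = 1 := by
        decide +kernel
      exact key a b (hV ha) (hV hb)
    exact Subgroup.commutator_le.2 hab hx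
  exact Group.isSolvable_of_ker_le_range (alternatingGroup (Fin 4)).subtype Equiv.Perm.sign
    (by rw [Subgroup.range_subtype, alternatingGroup_eq_sign_ker])

/-- A solvable subgroup of a perfect non-trivial group has index at least five. -/
theorem five_le_index {Γ : Type*} [Group Γ] [Finite Γ] [Nontrivial Γ] (hΓ : commutator Γ = ⊤)
    (T : Subgroup Γ) (hT : Group.IsSolvable T) : 5 ≤ T.index := by
  by_contra h
  haveI : Fintype (Γ ⧸ T) := Fintype.ofFinite _
  have hcard : Fintype.card (Γ ⧸ T) ≤ 4 := by
    rw [← Nat.card_eq_fintype_card]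
    exact Nat.le_of_lt_succ (not_le.1 h)
  obtain ⟨f⟩ : Nonempty ((Γ ⧸ T) ↪ Fin 4) := Function.Embedding.nonempty_of_card_le (by simpa)
  haveI : Group.IsSolvable (Equiv.Perm (Γ ⧸ T)) := by
    haveI := isSolvable_perm_four
    exact Group.isSolvable_of_isSolvable_injective (f := Equiv.Perm.viaEmbeddingHom f)
      (Equiv.Perm.viaEmbeddingHom_injective f)
  let φ : Γ →* Equiv.Perm (Γ ⧸ T) := MulAction.toPermHom Γ (Γ ⧸ T)
  haveI : Group.IsSolvable φ.range := inferInstance
  have hbot : φ.range = ⊥ := by
    have h1 : commutator φ.range = ⊤ := by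
      rw [commutator_def, ← Subgroup.map_top_of_surjective φ.rangeRestrict φ.rangeRestrict_surjective,
        ← Subgroup.map_commutator, ← commutator_def, hΓ]
    by_contra hne
    haveI : Nontrivial φ.range := (Subgroup.nontrivial_iff_ne_bot _).2 hne
    exact (Group.IsSolvable.commutator_lt_top_of_nontrivial φ.range).ne h1
  have hTtop : T = ⊤ := by
    rw [eq_top_iff]
    intro g _
    have h1 : φ g = 1 := Subgroup.mem_bot.1 (hbot ▸ ⟨g, rfl⟩)
    have h2 : g • (QuotientGroup.mk 1 : Γ ⧸ T) = QuotientGroup.mk 1 := by
      show φ g (QuotientGroup.mk 1) = _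
      rw [h1]
      rfl
    rw [MulAction.Quotient.smul_mk, QuotientGroup.eq] at h2
    simpa using h2
  haveI : Group.IsSolvable Γ := by
    subst hTtop
    exact Group.isSolvable_of_surjective (f := (Subgroup.topEquiv : _ ≃* Γ).toMonoidHom)
      (Subgroup.topEquiv : _ ≃* Γ).surjective
  exact (Group.IsSolvable.commutator_lt_top_of_nontrivial Γ).ne hΓ

/-- Inequivalent translates of a point by a perfect group commuting with a solvable one. -/
theorem exists_five {G Γ X : Type*} [Group G] [Group.IsSolvable G] [Group Γ] [Finite Γ]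
    [Nontrivial Γ] (hΓ : commutator Γ = ⊤) [MulAction Γ X] (act : G →* Equiv.Perm X)
    (hcomm : ∀ (g : G) (γ : Γ) (x : X), act g (γ • x) = γ • act g x) (x : X)
    (hst : Group.IsSolvable (MulAction.stabilizer Γ x)) :
    ∃ γ : Fin 5 → Γ, ∀ i j g, act g (γ i • x) = γ j • x → i = j := by
  let P : Subgroup (G × Γ) :=
    { carrier := {p | act p.1 x = p.2⁻¹ • x}
      one_mem' := by simp
      mul_mem' := fun {a b} ha hb => by
        simp only [Set.mem_ofPred_eq, Prod.fst_mul, Prod.snd_mul, map_mul, Equiv.Perm.mul_apply,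
          mul_inv_rev, mul_smul] at ha hb ⊢
        rw [hb, hcomm, ha]
      inv_mem' := fun {a} ha => by
        simp only [Set.mem_ofPred_eq, Prod.fst_inv, Prod.snd_inv, map_inv, inv_inv] at ha ⊢
        rw [Equiv.Perm.inv_def, Equiv.symm_apply_eq, hcomm, ha, smul_inv_smul] }
  let ι : MulAction.stabilizer Γ x →* P :=
    { toFun := fun γ => ⟨(1, (γ : Γ)), by
        show act 1 x = (γ : Γ)⁻¹ • x
        rw [map_one, Equiv.Perm.one_apply]
        exact (inv_smul_eq_iff.2 (MulAction.mem_stabilizer_iff.1 γ.2).symm).symm⟩
      map_one' := rfl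
      map_mul' := fun a b => Subtype.ext (Prod.ext (one_mul 1).symm rfl) }
  haveI hP : Group.IsSolvable P := Group.isSolvable_of_ker_le_range ι
    ((MonoidHom.fst G Γ).comp P.subtype) (by
      rintro ⟨⟨g, γ⟩, hg⟩ h
      simp only [MonoidHom.mem_ker, MonoidHom.comp_apply, Subgroup.coe_subtype,
        MonoidHom.coe_fst] at h
      subst h
      have h2 : x = γ⁻¹ • x := by simpa [P] using hg
      exact ⟨⟨γ, MulAction.mem_stabilizer_iff.2 (inv_smul_eq_iff.1 h2.symm).symm⟩, rfl⟩)
  let T : Subgroup Γ := P.map (MonoidHom.snd G Γ)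
  haveI : Group.IsSolvable T := Group.isSolvable_of_surjective
    (f := (MonoidHom.snd G Γ).subgroupMap P) ((MonoidHom.snd G Γ).subgroupMap_surjective P)
  have h5 : 5 ≤ T.index := five_le_index hΓ T inferInstance
  haveI : Fintype (Γ ⧸ T) := Fintype.ofFinite _
  obtain ⟨f⟩ : Nonempty (Fin 5 ↪ Γ ⧸ T) := Function.Embedding.nonempty_of_card_le (by
    rw [Fintype.card_fin, ← Nat.card_eq_fintype_card]
    exact h5)
  refine ⟨fun i => (f i).out, fun i j g h => f.injective ?_⟩
  rw [← QuotientGroup.out_eq' (f i), ← QuotientGroup.out_eq' (f j)]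
  refine (QuotientGroup.eq.2
    (show (f j).out⁻¹ * (f i).out ∈ T from ⟨(g, (f j).out⁻¹ * (f i).out), ?_, rfl⟩)).symm
  show act g x = ((f j).out⁻¹ * (f i).out)⁻¹ • x
  rw [hcomm] at h
  rw [mul_inv_rev, inv_inv, mul_smul, ← h, inv_smul_smul]

/-- `A₅` is perfect. -/
theorem commutator_alt_five : commutator (alternatingGroup (Fin 5)) = ⊤ := by
  haveI := alternatingGroup.isSimpleGroup_five
  refine ((inferInstance : (commutator (alternatingGroup (Fin 5))).Normal).eq_bot_or_eq_top).resolve_left fun h => ?_
  rw [commutator_def, Subgroup.commutator_eq_bot_iff_le_centralizer] at h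
  have key : ∃ a b : alternatingGroup (Fin 5), a * b ≠ b * a := by decide +kernel
  obtain ⟨a, b, hab⟩ := key
  exact hab ((Subgroup.mem_centralizer_iff.1 (h (Subgroup.mem_top b))) a (Subgroup.mem_top a))

/-- An asymmetric five-colouring gives five inequivalent ones. -/
theorem five_colourings {G Ω : Type*} [Group G] [Group.IsSolvable G] [MulAction G Ω] [Nonempty Ω]
    (h : ∃ c : Ω → Fin 5, ∀ g : G, (∀ x, c (g • x) = c x) → ∀ x : Ω, g • x = x) :
    ∃ C : Fin 5 → Ω → Fin 5,
      (∀ i (g : G), (∀ x, C i (g • x) = C i x) → ∀ x : Ω, g • x = x) ∧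
      ∀ i j (g : G), (∀ x, C j (g • x) = C i x) → i = j := by
  obtain ⟨c, hc⟩ := h
  let act : G →* Equiv.Perm (Ω → Fin 5) :=
    { toFun := fun g => (MulAction.toPerm g).arrowCongr (Equiv.refl (Fin 5))
      map_one' := Equiv.ext fun f => funext fun y => by
        show f ((1 : G)⁻¹ • y) = f y
        rw [inv_one, one_smul]
      map_mul' := fun g k => Equiv.ext fun f => funext fun y => by
        show f ((g * k)⁻¹ • y) = f (k⁻¹ • g⁻¹ • y)
        rw [mul_inv_rev, mul_smul] }
  obtain ⟨x₀⟩ := ‹Nonempty Ω›
  have hst : Group.IsSolvable (MulAction.stabilizer (alternatingGroup (Fin 5)) c) := by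
    haveI : Group.IsSolvable (Equiv.Perm {y : Fin 5 // y ≠ c x₀}) := by
      haveI := isSolvable_perm_four
      let e : {y : Fin 5 // y ≠ c x₀} ≃ Fin 4 := Fintype.equivFinOfCardEq (by simp)
      exact Group.isSolvable_of_isSolvable_injective (f := e.permCongrHom.toMonoidHom) e.permCongrHom.injective
    have hfix : ∀ γ : MulAction.stabilizer (alternatingGroup (Fin 5)) c,
        ((γ : alternatingGroup (Fin 5)) : Equiv.Perm (Fin 5)) (c x₀) = c x₀ := fun γ =>
      congrFun (MulAction.mem_stabilizer_iff.1 γ.2) x₀
    let r : MulAction.stabilizer (alternatingGroup (Fin 5)) c →*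
        Equiv.Perm {y : Fin 5 // y ≠ c x₀} :=
      { toFun := fun γ => ((γ : alternatingGroup (Fin 5)) : Equiv.Perm (Fin 5)).subtypePerm
          (fun y => by
            simp only [ne_eq, not_iff_not]
            conv_lhs => rw [← hfix γ]
            exact ((γ : alternatingGroup (Fin 5)) : Equiv.Perm (Fin 5)).injective.eq_iff)
        map_one' := Equiv.ext fun y => rfl
        map_mul' := fun a b => Equiv.ext fun y => rfl }
    refine Group.isSolvable_of_isSolvable_injective (f := r) fun a b hab => ?_
    refine Subtype.ext (Subtype.ext (Equiv.ext fun y => ?_))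
    by_cases hy : y = c x₀
    · rw [hy, hfix a, hfix b]
    · exact congrArg Subtype.val (DFunLike.congr_fun hab ⟨y, hy⟩)
  obtain ⟨γ, hγ⟩ := exists_five commutator_alt_five act (fun g γ f => rfl) c hst
  refine ⟨fun i => γ i • c, fun i g hg => hc g fun x => ?_, fun i j g hg => hγ i j g ?_⟩
  · exact ((γ i : alternatingGroup (Fin 5)) : Equiv.Perm (Fin 5)).injective (hg x)
  · funext y
    have := hg (g⁻¹ • y)
    rw [smul_inv_smul] at this
    exact this.symm

variable {G V : Type u} [Group G] [AddCommGroup V]

/-- Three vectors whose common stabilizer is the kernel. -/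
def Three (ρ : G →* AddMonoid.End V) : Prop :=
  ∃ t : Fin 3 → V, ∀ g, (∀ k, ρ g (t k) = t k) → ρ g = 1

/-- A triple can be chosen to start with a non-zero vector. -/
theorem exists_triple_ne_zero [Nontrivial V] {ρ : G →* AddMonoid.End V} (h : Three ρ) :
    ∃ t : Fin 3 → V, t 0 ≠ 0 ∧ ∀ g, (∀ k, ρ g (t k) = t k) → ρ g = 1 := by
  obtain ⟨t, ht⟩ := h
  by_cases h0 : t 0 = 0
  · by_cases h1 : t 1 = 0
    · by_cases h2 : t 2 = 0
      · obtain ⟨v, hv⟩ := exists_ne (0 : V)
        refine ⟨![v, 0, 0], hv, fun g _ => ht g fun k => ?_⟩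
        have : t k = 0 := by fin_cases k <;> assumption
        rw [this, map_zero]
      · refine ⟨![t 2, t 0, t 1], h2, fun g hg => ht g fun k => ?_⟩
        fin_cases k
        exacts [hg 1, hg 2, hg 0]
    · refine ⟨![t 1, t 0, t 2], h1, fun g hg => ht g fun k => ?_⟩
      fin_cases k
      exacts [hg 1, hg 0, hg 2]
  · exact ⟨t, h0, ht⟩

/-- A regular pair gives five inequivalent triples. -/
theorem five_of_pair [Finite V] [Nontrivial V] {ρ : G →* AddMonoid.End V} {a b : V} (ha : a ≠ 0)
    (hab : ∀ g, ρ g a = a → ρ g b = b → ρ g = 1) :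
    ∃ P : Fin 5 → Fin 3 → V, (∀ i g, (∀ k, ρ g (P i k) = P i k) → ρ g = 1) ∧
      ∀ i j g, (∀ k, ρ g (P i k) = P j k) → i = j := by
  classical
  haveI := Fintype.ofFinite V
  by_cases hV : 4 ≤ Fintype.card V
  · obtain ⟨f⟩ : Nonempty (Fin 4 ↪ V) := Function.Embedding.nonempty_of_card_le (by simpa)
    refine ⟨Fin.cons ![0, a, b] fun i => ![a, b, f i], fun i g h => ?_, fun i j g h => ?_⟩
    · refine i.cases (fun h => hab g (h 1) (h 2)) (fun i h => hab g (h 0) (h 1)) h
    · revert h
      refine i.cases ?_ (fun i => ?_) <;> refine j.cases ?_ (fun j => ?_) <;> intro h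
      · rfl
      · exfalso
        have h0 := h 0
        simp only [Fin.cons_zero, Fin.cons_succ, Matrix.cons_val_zero, map_zero] at h0
        exact ha h0.symm
      · exfalso
        have h0 := h 0
        simp only [Fin.cons_zero, Fin.cons_succ, Matrix.cons_val_zero] at h0
        exact ha (rho_injective ρ g (h0.trans (map_zero _).symm))
      · simp only [Fin.cons_succ] at h
        have hg := hab g (h 0) (h 1)
        have h2 : ρ g (f i) = f j := h 2
        rw [hg] at h2
        exact congrArg Fin.succ (f.injective h2)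
  · -- three vectors at most: every non-zero vector has trivial stabilizer
    have hreg : ∀ g, ρ g a = a → ρ g = 1 := by
      intro g hg
      refine end_ext fun x => ?_
      show ρ g x = x
      by_contra hx
      have hx0 : x ≠ 0 := fun e => hx (by rw [e, map_zero])
      have hxa : x ≠ a := fun e => hx (by rw [e]; exact hg)
      have h3 : ({0, a, x, ρ g x} : Finset V).card = 4 := by
        have e1 : ρ g x ≠ 0 := fun e => hx0 (rho_injective ρ g (e.trans (map_zero _).symm))
        have e2 : ρ g x ≠ a := fun e => hxa (rho_injective ρ g (e.trans hg.symm))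
        simp [ha.symm, hx0.symm, hxa.symm, e1.symm, e2.symm, Ne.symm hx]
      have := Finset.card_le_univ ({0, a, x, ρ g x} : Finset V)
      omega
    refine ⟨![![a, 0, 0], ![a, 0, a], ![0, a, 0], ![0, a, a], ![0, 0, a]], fun i g h => ?_,
      fun i j g h => ?_⟩
    · fin_cases i
      exacts [hreg g (h 0), hreg g (h 0), hreg g (h 1), hreg g (h 1), hreg g (h 2)]
    · have hne : ρ g a ≠ 0 := fun e => ha (rho_injective ρ g (e.trans (map_zero _).symm))
      have h0 := h 0
      have h1 := h 1
      have h2 := h 2
      clear h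
      fin_cases i <;> fin_cases j <;> first
        | rfl
        | (exfalso; simp [hne, hne.symm, ha, ha.symm] at h0 h1 h2)

/-- A regular triple gives five inequivalent ones. -/
theorem five_triples [Group.IsSolvable G] [Finite V] [Nontrivial V] {ρ : G →* AddMonoid.End V}
    {p : ℕ} [Fact p.Prime] (hp : ∀ v : V, p • v = 0) (h : Three ρ) :
    ∃ P : Fin 5 → Fin 3 → V, (∀ i g, (∀ k, ρ g (P i k) = P i k) → ρ g = 1) ∧
      ∀ i j g, (∀ k, ρ g (P i k) = P j k) → i = j := by
  classical
  obtain ⟨t, ht0, ht⟩ := exists_triple_ne_zero h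
  letI : Module (ZMod p) V := AddCommGroup.zmodModule hp
  by_cases hind : LinearIndependent (ZMod p) t
  · let Γ := Matrix.SpecialLinearGroup (Fin 3) (ZMod p)
    letI : MulAction Γ (Fin 3 → V) :=
      { smul := fun γ s i => ∑ j, (γ.1 i j) • s j
        one_smul := fun s => funext fun i => by
          show ∑ j, ((1 : Γ).1 i j) • s j = s i
          simp [Matrix.one_apply, ite_smul]
        mul_smul := fun γ δ s => funext fun i => by
          show ∑ j, ((γ.1 * δ.1) i j) • s j = ∑ j, (γ.1 i j) • ∑ k, (δ.1 j k) • s k
          simp only [Matrix.mul_apply, Finset.sum_smul,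
            Finset.smul_sum, mul_smul]
          rw [Finset.sum_comm] }
    let act : G →* Equiv.Perm (Fin 3 → V) :=
      { toFun := fun g =>
          { toFun := fun s k => ρ g (s k)
            invFun := fun s k => ρ g⁻¹ (s k)
            left_inv := fun s => funext fun k => rho_inv_apply ρ g (s k)
            right_inv := fun s => funext fun k => rho_apply_inv ρ g (s k) }
        map_one' := Equiv.ext fun s => funext fun k => rho_one ρ (s k)
        map_mul' := fun g k => Equiv.ext fun s => funext fun i => rho_mul ρ g k (s i) }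
    have hcomm : ∀ (g : G) (γ : Γ) (s : Fin 3 → V), act g (γ • s) = γ • act g s := by
      intro g γ s
      funext i
      show ρ g (∑ j, (γ.1 i j) • s j) = ∑ j, (γ.1 i j) • ρ g (s j)
      rw [map_sum]
      exact Finset.sum_congr rfl fun j _ => ZMod.map_smul (ρ g) _ _
    haveI : Nontrivial Γ := by
      refine ⟨⟨⟨Matrix.transvection 0 1 1, Matrix.det_transvection_of_ne _ _ (by decide) _⟩, 1,
        fun e => ?_⟩⟩
      have h1 := congrFun (congrFun (congrArg Subtype.val e) 0) 1
      simp [Matrix.transvection] at h1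
    have hst : Group.IsSolvable (MulAction.stabilizer Γ t) := by
      haveI : Subsingleton (MulAction.stabilizer Γ t) := by
        have key : ∀ γ : MulAction.stabilizer Γ t, (γ : Γ) = 1 := by
          intro γ
          apply Subtype.ext
          ext i j
          have h1 : ∑ j, ((γ : Γ).1 i j) • t j = ∑ j, ((1 : Γ).1 i j) • t j :=
            (congrFun (MulAction.mem_stabilizer_iff.1 γ.2) i).trans
              (congrFun (one_smul Γ t) i).symm
          have h2 : ∑ j, ((γ : Γ).1 i j - (1 : Γ).1 i j) • t j = 0 := by
            simp only [sub_smul, Finset.sum_sub_distrib]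
            rw [h1, sub_self]
          exact sub_eq_zero.1 (Fintype.linearIndependent_iff.1 hind _ h2 j)
        exact ⟨fun a b => Subtype.ext ((key a).trans (key b).symm)⟩
      exact Group.isSolvable_of_comm fun a b => Subsingleton.elim _ _
    obtain ⟨γ, hγ⟩ := exists_five
      (CfsgLib.Linear.commutator_SL_eq_top (n := Fin 3) (F := ZMod p) (Or.inl (by simp))) act hcomm t hst
    refine ⟨fun i => γ i • t, fun i g hg => ht g fun k => ?_, fun i j g hg => hγ i j g (funext hg)⟩
    have h1 : act g (γ i • t) = γ i • t := funext hg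
    rw [hcomm] at h1
    exact congrFun (smul_left_cancel _ h1) k
  · obtain ⟨c, hsum, i, hi⟩ := Fintype.not_linearIndependent_iff.1 hind
    have hfix : ∀ g, (∀ k, k ≠ i → ρ g (t k) = t k) → ρ g = 1 := by
      intro g hg
      refine ht g fun k => ?_
      by_cases hk : k = i
      · subst hk
        have h1 : ∑ j, c j • (ρ g (t j) - t j) = 0 := by
          simp only [smul_sub, Finset.sum_sub_distrib, hsum, sub_zero]
          rw [← map_zero (ρ g), ← hsum, map_sum]
          exact Finset.sum_congr rfl fun j _ => (ZMod.map_smul (ρ g) _ _).symm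
        rw [Finset.sum_eq_single k (fun j _ hj => by rw [hg j hj, sub_self, smul_zero])
          (fun h => absurd (Finset.mem_univ k) h)] at h1
        exact sub_eq_zero.1 (by rw [← inv_smul_smul₀ hi (ρ g (t k) - t k), h1, smul_zero])
      · exact hg k hk
    by_cases hi0 : i = 0
    · subst hi0
      by_cases h1 : t 1 = 0
      · by_cases h2 : t 2 = 0
        · refine five_of_pair ht0 (b := 0) fun g h0 _ => ht g fun k => ?_
          fin_cases k
          · exact h0
          · show ρ g (t 1) = t 1
            rw [h1, map_zero]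
          · show ρ g (t 2) = t 2
            rw [h2, map_zero]
        · exact five_of_pair h2 (b := t 1) fun g h0 h0' => hfix g fun k hk => by
            fin_cases k
            exacts [absurd rfl hk, h0', h0]
      · exact five_of_pair h1 (b := t 2) fun g h0 h0' => hfix g fun k hk => by
          fin_cases k
          exacts [absurd rfl hk, h0, h0']
    · by_cases hi1 : i = 1
      · subst hi1
        exact five_of_pair ht0 (b := t 2) fun g h0 h0' => hfix g fun k hk => by
          fin_cases k
          exacts [h0, absurd rfl hk, h0']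
      · obtain rfl : i = 2 := by omega
        exact five_of_pair ht0 (b := t 1) fun g h0 h0' => hfix g fun k hk => by
          fin_cases k
          exacts [h0, h0', absurd rfl hk]

end CfsgLib.SolBase
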