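import Mathlib
import Cfsg.Agent.Lib.OddBase.Main
import Cfsg.Agent.Lib.SolBase.Layered

/-!
# Three vectors with trivial common stabilizer

A solvable group acting faithfully and completely reducibly on a finite module has a base of
size three.
-/

set_option autoImplicit false
set_option maxHeartbeats 800000
set_option linter.style.haveILetI false
set_option linter.unusedSectionVars false

namespace CfsgLib.SolBase

open CfsgLib.OddBase

universe u v

variable {G V : Type u} [Group G] [AddCommGroup V]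

/-- The homogeneous case. -/
theorem field_three [Finite G] [Finite V] [Nontrivial V] [Group.IsSolvable G]
    (ρ : G →* AddMonoid.End V) (hfaith : ∀ g, ρ g = 1 → g = 1)
    (Z : Subgroup G) [hZn : Z.Normal] (hZc : ∀ a ∈ Z, ∀ b ∈ Z, a * b = b * a)
    (hmax : ∀ B : Subgroup G, B.Normal → Z ≤ B → (∀ a ∈ B, ∀ b ∈ B, a * b = b * a) → B = Z)
    (R : Subring (AddMonoid.End V)) (hcomm : ∀ r ∈ R, ∀ s ∈ R, r * s = s * r)
    (hinv : ∀ g, ∀ r ∈ R, cj ρ g r ∈ R) (hZR : ∀ z ∈ Z, ρ z ∈ R)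
    (hgen : ∀ g ∈ Subgroup.centralizer (Z : Set G), ∀ r ∈ R, ρ g * r = r * ρ g)
    (hdiv : ∀ r ∈ R, r ≠ 0 → ∃ s ∈ R, r * s = 1)
    (ih : ∀ (H W : Type u) [Group H] [Finite H] [AddCommGroup W] [Finite W]
      (σ : H →* AddMonoid.End W), Nat.card W < Nat.card V →
        Group.IsSolvable H → CR σ → Three σ) :
    Three ρ := by
  classical
  haveI : Finite (AddMonoid.End V) := Finite.of_injective _ DFunLike.coe_injective
  have hpair : ∃ x y : ↥R, x ≠ y := ⟨0, 1, fun h => by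
    obtain ⟨v, hv⟩ := exists_ne (0 : V)
    exact hv (DFunLike.congr_fun (congrArg Subtype.val h) v).symm⟩
  have hisF : IsField ↥R :=
    ⟨hpair, fun r s => Subtype.ext (hcomm r r.2 s s.2), fun {r} hr => by
      obtain ⟨s, hs, h⟩ := hdiv r r.2 fun h => hr (Subtype.ext h)
      exact ⟨⟨s, hs⟩, Subtype.ext h⟩⟩
  letI : Field ↥R := hisF.toField
  haveI := Fintype.ofFinite ↥R
  have hsmul : ∀ (r : ↥R) (x : V), r • x = (r : AddMonoid.End V) x := fun _ _ => rfl
  haveI : Module.Finite ↥R V := Module.Finite.of_finite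
  let ι : ↥Z →* ↥R :=
    { toFun := fun z => ⟨ρ z, hZR z z.2⟩
      map_one' := Subtype.ext (map_one ρ)
      map_mul' := fun a b => Subtype.ext (map_mul ρ (a : G) b) }
  have hιinj : Function.Injective ι := fun a b h => by
    refine Subtype.ext (eq_of_mul_inv_eq_one (hfaith _ ?_))
    rw [map_mul, show ρ (a : G) = ρ b from congrArg Subtype.val h, ← map_mul, mul_inv_cancel,
      map_one]
  haveI : IsCyclic ↥Z := isCyclic_of_subgroup_isDomain ι hιinj
  have hfree : ∀ z ∈ Z, ∀ x, ρ z x = x → x ≠ 0 → z = 1 := by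
    intro z hz x hx hx0
    refine hfaith z ?_
    by_contra h
    obtain ⟨s, hs, hrs⟩ := hdiv (ρ z - 1) (R.sub_mem (hZR z hz) R.one_mem) (sub_ne_zero.mpr h)
    rw [hcomm _ (R.sub_mem (hZR z hz) R.one_mem) s hs] at hrs
    refine hx0 ?_
    have : s ((ρ z - 1) x) = x := DFunLike.congr_fun hrs x
    rw [show (ρ z - 1) x = 0 from sub_eq_zero.mpr hx, map_zero] at this
    exact this.symm
  by_cases hCZ : Subgroup.centralizer (Z : Set G) ≤ Z
  · obtain ⟨x, y, hxy⟩ := good_of_self_centralizing ρ Z hfree hCZ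
    exact ⟨![x, y, 0], fun g hg => hxy g (hg 0) (hg 1)⟩
  obtain ⟨N, hL, hcent⟩ := exists_layer hZc hmax
  obtain ⟨a, ha, haZ⟩ : ∃ a ∈ N, a ∉ Z := by
    by_contra hne
    push Not at hne
    exact hCZ fun c hc => hcent c hc fun y hy => cent_comm hc (hne y hy)
  by_cases hirrN : ∀ U : AddSubgroup V, (∀ y ∈ N, ∀ x ∈ U, ρ y x ∈ U) → U = ⊥ ∨ U = ⊤
  swap
  · push Not at hirrN
    obtain ⟨U, hU, hU0, hU1⟩ := hirrN
    exact three_reducible ρ hL hcent hfree hU hU0 hU1 ih
  have hlin : ∀ g ∈ Subgroup.centralizer (Z : Set G), ∀ (r : ↥R) (v : V),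
      ρ g (r • v) = r • ρ g v := fun g hg r v => DFunLike.congr_fun (hgen g hg r r.2) v
  have hι : ∀ (z : ↥Z) (v : V), ρ z v = ι z • v := fun z v => rfl
  by_cases heig : ∀ x ∈ N, ∀ (v : V) (r : ↥R), v ≠ 0 → ρ x v = r • v → x ∈ Z
  · exact three_scalar_free hL hfree hlin ι hι hirrN ⟨a, ha, haZ⟩ heig
  · push Not at heig
    obtain ⟨x₀, hx₀, v₀, r₀, hv₀, hx₀v, hx₀Z⟩ := heig
    exact three_line hL hfree hfaith hlin (fun g r => ⟨cj ρ g r, hinv g r r.2⟩)
      (fun g r v => (cj_apply ρ g (r : AddMonoid.End V) v).symm) ι hι hirrN hx₀ hx₀Z hv₀ hx₀v ih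

theorem three_of_sum {ρ : G →* AddMonoid.End V} {U W : AddSubgroup V} (hU : Inv ρ U)
    (hW : Inv ρ W) (hUW : U ⊓ W = ⊥) (htop : U ⊔ W = ⊤) (h1 : Three (restr ρ U hU))
    (h2 : Three (restr ρ W hW)) : Three ρ := by
  obtain ⟨a, ha⟩ := h1
  obtain ⟨c, hc⟩ := h2
  refine ⟨fun k => (a k : V) + c k, fun g hg => ?_⟩
  have key : ∀ (p : U) (r : W), ρ g ((p : V) + r) = p + r →
      restr ρ U hU g p = p ∧ restr ρ W hW g r = r := by
    intro p r h
    rw [map_add] at h
    have e : ρ g p - p = r - ρ g r := by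
      rw [sub_eq_sub_iff_add_eq_add, h, add_comm]
    have h0 : ρ g p - p = 0 := by
      rw [← AddSubgroup.mem_bot, ← hUW]
      exact AddSubgroup.mem_inf.mpr ⟨sub_mem (hU g p p.2) p.2, e ▸ sub_mem r.2 (hW g r r.2)⟩
    have hp := sub_eq_zero.mp h0
    refine ⟨Subtype.ext hp, Subtype.ext ?_⟩
    rw [h0, eq_comm, sub_eq_zero] at e
    exact e.symm
  have hgU := ha g fun k => (key (a k) (c k) (hg k)).1
  have hgW := hc g fun k => (key (a k) (c k) (hg k)).2
  refine end_ext fun x => ?_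
  have : x ∈ U ⊔ W := by rw [htop]; trivial
  obtain ⟨p, hp, r, hr, rfl⟩ := AddSubgroup.mem_sup.mp this
  have e1 : ρ g p = p := (congrArg Subtype.val (DFunLike.congr_fun hgU ⟨p, hp⟩) :)
  have e2 : ρ g r = r := (congrArg Subtype.val (DFunLike.congr_fun hgW ⟨r, hr⟩) :)
  rw [map_add, e1, e2]
  rfl

/-- The irreducible faithful case. -/
theorem three_irreducible [Finite G] [Finite V] [Nontrivial V] [Group.IsSolvable G]
    (ρ : G →* AddMonoid.End V) (hfaith : ∀ g, ρ g = 1 → g = 1)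
    (hirr : Irr ρ)
    (ih : ∀ (H W : Type u) [Group H] [Finite H] [AddCommGroup W] [Finite W]
      (σ : H →* AddMonoid.End W), Nat.card W < Nat.card V →
        Group.IsSolvable H → CR σ → Three σ) :
    Three ρ := by
  haveI : Finite (AddMonoid.End V) := Finite.of_injective _ DFunLike.coe_injective
  obtain ⟨Z, hZ⟩ := Set.Finite.exists_maximal
    (s := {B : Subgroup G | B.Normal ∧ ∀ a ∈ B, ∀ b ∈ B, a * b = b * a}) (Set.toFinite _)
    ⟨⊥, inferInstance, fun a ha b hb => by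
      rw [Subgroup.mem_bot.mp ha, Subgroup.mem_bot.mp hb]⟩
  obtain ⟨hZn, hZc⟩ := hZ.1
  haveI := hZn
  have hmax : ∀ B : Subgroup G, B.Normal → Z ≤ B → (∀ a ∈ B, ∀ b ∈ B, a * b = b * a) → B = Z :=
    fun B hB hZB hBc => le_antisymm (hZ.2 ⟨hB, hBc⟩ hZB) hZB
  let S : Set (AddMonoid.End V) := ρ '' (Z : Set G)
  let R : Subring (AddMonoid.End V) := Subring.closure S
  haveI : IsMulCommutative R := Subring.isMulCommutative_closure (by
    rintro _ ⟨a, ha, rfl⟩ _ ⟨b, hb, rfl⟩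
    rw [← map_mul, ← map_mul, hZc a ha b hb])
  have hcomm : ∀ r ∈ R, ∀ s ∈ R, r * s = s * r := fun r hr s hs =>
    congrArg Subtype.val (mul_comm' (⟨r, hr⟩ : R) ⟨s, hs⟩)
  have hinv : ∀ g, ∀ r ∈ R, cj ρ g r ∈ R := by
    intro g r hr
    refine Subring.closure_induction ?_ ?_ ?_ ?_ ?_ ?_ hr
    · rintro _ ⟨z, hz, rfl⟩
      rw [cj_rho]
      exact Subring.subset_closure ⟨_, hZn.conj_mem z hz g, rfl⟩
    · rw [cj_zero]; exact R.zero_mem
    · rw [cj_one]; exact R.one_mem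
    · intro a b _ _ ha hb; rw [cj_add]; exact R.add_mem ha hb
    · intro a _ ha; rw [cj_neg]; exact R.neg_mem ha
    · intro a b _ _ ha hb; rw [cj_mul]; exact R.mul_mem ha hb
  by_cases hidem : ∃ f ∈ R, f * f = f ∧ f ≠ 0 ∧ f ≠ 1
  · obtain ⟨f, hfR, hf, hf0, hf1⟩ := hidem
    exact three_of_idempotent hirr R hcomm hinv hfR hf hf0 hf1 ih
  push Not at hidem
  refine field_three ρ hfaith Z hZc hmax R hcomm hinv
    (fun z hz => Subring.subset_closure ⟨z, hz, rfl⟩) (fun g hg r hr => ?_) (fun r hr hr0 => ?_)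
    ih
  · refine (Subring.mem_centralizer_iff.mp
      (show r ∈ Subring.centralizer {ρ g} from ?_) (ρ g) rfl)
    refine (Subring.closure_le.mpr ?_) hr
    rintro _ ⟨z, hz, rfl⟩
    exact Subring.mem_centralizer_iff.mpr fun t ht => by
      rw [Set.mem_singleton_iff.mp ht, ← map_mul, ← map_mul,
        Subgroup.mem_centralizer_iff.mp hg z hz]
  · obtain ⟨n, hn, hidem'⟩ := exists_pow_idem r
    have h1 : r ^ n = 1 := hidem _ (R.pow_mem hr n) hidem' fun h =>
      hr0 (eq_zero_of_nilpotent hirr R hcomm hinv hr h)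
    refine ⟨r ^ (n - 1), R.pow_mem hr _, ?_⟩
    rw [← pow_succ', Nat.sub_add_cancel hn, h1]

theorem three_aux (n : ℕ) :
    ∀ (G V : Type u) [Group G] [Finite G] [AddCommGroup V] [Finite V]
      (ρ : G →* AddMonoid.End V), Nat.card V = n → Group.IsSolvable G →
        CR ρ → Three ρ := by
  induction n using Nat.strong_induction_on with
  | _ n ih =>
  intro G V _ _ _ _ ρ hn hsol hcr
  haveI := hsol
  by_cases hirr : Irr ρ
  · rcases subsingleton_or_nontrivial V with hV | hV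
    · exact ⟨0, fun g _ => end_ext fun x => Subsingleton.elim _ _⟩
    haveI : Finite (AddMonoid.End V) := Finite.of_injective _ DFunLike.coe_injective
    let ψ : G →* (AddMonoid.End V)ˣ := ρ.toHomUnits
    let σ : ψ.range →* AddMonoid.End V := (Units.coeHom _).comp ψ.range.subtype
    haveI : Group.IsSolvable ψ.range := Group.isSolvable_of_surjective ψ.rangeRestrict_surjective
    obtain ⟨t, ht⟩ := three_irreducible σ
      (fun g h => Subtype.ext (Units.ext h))
      (fun U hU => hirr U fun g z hz => hU ⟨ψ g, g, rfl⟩ z hz)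
      (fun H W _ _ _ _ τ hW hHs hHcr => ih _ (hn ▸ hW) H W τ rfl hHs hHcr)
    exact ⟨t, fun g h => ht ⟨ψ g, g, rfl⟩ h⟩
  · obtain ⟨U, hU, hU0, hU1⟩ : ∃ U, Inv ρ U ∧ U ≠ ⊥ ∧ U ≠ ⊤ := by
      simp only [Irr, not_forall, not_or] at hirr
      obtain ⟨U, hU, h⟩ := hirr
      exact ⟨U, hU, h⟩
    obtain ⟨W, hW, hUW, htop⟩ := hcr U hU
    have hlt : ∀ T : AddSubgroup V, T ≠ ⊤ → Nat.card T < n := fun T hT => hn ▸
      lt_of_le_of_ne (Nat.le_of_dvd Nat.card_pos (AddSubgroup.card_addSubgroup_dvd_card _))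
        fun h => hT (AddSubgroup.eq_top_of_card_eq _ h)
    have hW1 : W ≠ ⊤ := fun h => hU0 (by rwa [h, inf_top_eq] at hUW)
    exact three_of_sum hU hW hUW htop
      (ih _ (hlt U hU1) G U _ rfl hsol (restr_cr hcr U hU))
      (ih _ (hlt W hW1) G W _ rfl hsol (restr_cr hcr W hW))

/-- The same for a faithful action, in arbitrary universes. -/
theorem exists_three_vectors {A : Type u} {V : Type v} [Group A] [Finite A] [AddCommGroup V]
    [Finite V] [DistribMulAction A V] [FaithfulSMul A V]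
    (hsol : Group.IsSolvable A)
    (hcr : ∀ U : AddSubgroup V, (∀ a : A, ∀ v ∈ U, a • v ∈ U) →
      ∃ W : AddSubgroup V, (∀ a : A, ∀ w ∈ W, a • w ∈ W) ∧ U ⊓ W = ⊥ ∧ U ⊔ W = ⊤) :
    ∃ u v w : V, ∀ a : A, a • u = u → a • v = v → a • w = w → a = 1 := by
  let ρ : ULift.{v} A →* AddMonoid.End (ULift.{u} V) :=
    { toFun := fun a => AddMonoidHom.mk' (fun x => ULift.up (a.down • x.down))
        fun x y => congrArg ULift.up (smul_add a.down x.down y.down)
      map_one' := end_ext fun x => congrArg ULift.up (one_smul A x.down)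
      map_mul' := fun a b => end_ext fun x => congrArg ULift.up (mul_smul a.down b.down x.down) }
  haveI := hsol
  haveI : Group.IsSolvable (ULift.{v} A) :=
    Group.isSolvable_of_surjective
      (f := (MulEquiv.ulift.{u, v} (α := A)).symm.toMonoidHom) MulEquiv.ulift.symm.surjective
  let e : ULift.{u} V ≃+ V := AddEquiv.ulift
  have hcr' : CR ρ := by
    intro U hU
    obtain ⟨W, hW, h1, h2⟩ := hcr (U.map e.toAddMonoidHom) (by
      rintro a _ ⟨x, hx, rfl⟩
      exact ⟨_, hU (ULift.up a) x hx, rfl⟩)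
    refine ⟨W.comap e.toAddMonoidHom, fun a x hx => hW a.down _ hx, ?_, ?_⟩
    · rw [AddSubgroup.eq_bot_iff_forall]
      rintro x ⟨hxU, hxW⟩
      have : e x ∈ U.map e.toAddMonoidHom ⊓ W := ⟨⟨x, hxU, rfl⟩, hxW⟩
      rw [h1, AddSubgroup.mem_bot] at this
      exact e.injective (this.trans (map_zero e).symm)
    · rw [AddSubgroup.eq_top_iff']
      intro x
      have : e x ∈ U.map e.toAddMonoidHom ⊔ W := by rw [h2]; trivial
      obtain ⟨_, ⟨t, ht, rfl⟩, b, hb, hab⟩ := AddSubgroup.mem_sup.mp this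
      refine AddSubgroup.mem_sup.mpr ⟨t, ht, x - t, ?_, add_sub_cancel t x⟩
      show e.toAddMonoidHom (x - t) ∈ W
      rw [map_sub, show e.toAddMonoidHom x = e x from rfl, ← hab]
      simpa using hb
  obtain ⟨t, ht⟩ := three_aux (Nat.card (ULift.{u} V)) _ _ ρ rfl inferInstance hcr'
  refine ⟨(t 0).down, (t 1).down, (t 2).down, fun a h0 h1 h2 =>
    FaithfulSMul.eq_of_smul_eq_smul (α := V) fun z => ?_⟩
  have h := DFunLike.congr_fun (ht (ULift.up a) fun k => by
    fin_cases k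
    exacts [congrArg ULift.up h0, congrArg ULift.up h1, congrArg ULift.up h2]) (ULift.up z)
  rw [one_smul]
  exact congrArg ULift.down h

end CfsgLib.SolBase
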