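import Cfsg.Agent.Lib.SolBase.Colour

/-!
# The imprimitive case for three vectors

An idempotent in an invariant commutative ring of endomorphisms splits the module into blocks.
-/

set_option autoImplicit false
set_option linter.unusedSectionVars false
set_option linter.style.haveILetI false

namespace CfsgLib.SolBase

open CfsgLib.OddBase
open scoped Classical Pointwise

universe u

variable {G V : Type u} [Group G] [AddCommGroup V] {ρ : G →* AddMonoid.End V}

/-- An irreducible finite module has prime exponent. -/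
theorem exists_prime_smul [Finite V] [Nontrivial V] (hirr : Irr ρ) :
    ∃ p : ℕ, Fact p.Prime ∧ ∀ v : V, p • v = 0 := by
  obtain ⟨p, hp, hdvd⟩ := Nat.exists_prime_and_dvd (n := Nat.card V) Finite.one_lt_card.ne'
  haveI := Fact.mk hp
  obtain ⟨v, hv⟩ := exists_prime_addOrderOf_dvd_card' p hdvd
  refine ⟨p, ⟨hp⟩, fun x => ?_⟩
  let K : AddSubgroup V := (nsmulAddMonoidHom p).ker
  have hK : Inv ρ K := fun g y hy => by
    simp only [K, AddMonoidHom.mem_ker, nsmulAddMonoidHom_apply] at hy ⊢
    rw [← map_nsmul, hy, map_zero]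
  rcases hirr K hK with h | h
  · have hvK : v ∈ K := by
      simp only [K, AddMonoidHom.mem_ker, nsmulAddMonoidHom_apply]
      rw [← hv]
      exact addOrderOf_nsmul_eq_zero v
    rw [h, AddSubgroup.mem_bot] at hvK
    rw [hvK, addOrderOf_zero] at hv
    exact absurd hv hp.one_lt.ne
  · have : x ∈ K := h ▸ AddSubgroup.mem_top x
    simpa [K] using this

/-- The imprimitive case. -/
theorem three_of_idempotent [Finite G] [Finite V] [Group.IsSolvable G]
    (hirr : Irr ρ) (R : Subring (AddMonoid.End V)) (hcomm : ∀ r ∈ R, ∀ s ∈ R, r * s = s * r)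
    (hinv : ∀ g, ∀ r ∈ R, cj ρ g r ∈ R) {f : AddMonoid.End V} (hfR : f ∈ R) (hf : f * f = f)
    (hf0 : f ≠ 0) (hf1 : f ≠ 1)
    (ih : ∀ (H W : Type u) [Group H] [Finite H] [AddCommGroup W] [Finite W]
      (σ : H →* AddMonoid.End W), Nat.card W < Nat.card V →
        Group.IsSolvable H → CR σ → Three σ) :
    Three ρ := by
  haveI : Finite (AddMonoid.End V) := Finite.of_injective _ DFunLike.coe_injective
  have hidem : ∀ {r : AddMonoid.End V}, r * r = r → ∀ x, r (r x) = r x :=
    fun h x => DFunLike.congr_fun h x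
  obtain ⟨e, ⟨heR, he, he0⟩, hmin⟩ := Set.exists_min_image
    {r : AddMonoid.End V | r ∈ R ∧ r * r = r ∧ r ≠ 0} (fun r => Nat.card (fixedBy r))
    (Set.toFinite _) ⟨f, hfR, hf, hf0⟩
  have hWlt : Nat.card (fixedBy e) < Nat.card V := by
    refine (hmin f ⟨hfR, hf, hf0⟩).trans_lt ?_
    refine lt_of_le_of_ne (Nat.le_of_dvd Nat.card_pos (AddSubgroup.card_addSubgroup_dvd_card _))
      fun h => hf1 ?_
    have htop := AddSubgroup.eq_top_of_card_eq _ h
    exact end_ext fun x => (show x ∈ fixedBy f by rw [htop]; trivial)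
  -- the conjugates of `e`
  let I := {r : AddMonoid.End V // ∃ g, cj ρ g e = r}
  letI : MulAction G I :=
    { smul := fun g r => ⟨cj ρ g r.1, by
        obtain ⟨h, hh⟩ := r.2
        exact ⟨g * h, by rw [cj_comp, hh]⟩⟩
      one_smul := fun r => Subtype.ext (cj_one_left ρ r.1)
      mul_smul := fun g h r => Subtype.ext (cj_comp ρ g h r.1) }
  haveI := Fintype.ofFinite I
  choose t ht using fun i : I => i.2
  have hIR : ∀ i : I, i.1 ∈ R := fun i => ht i ▸ hinv _ e heR
  have hIid : ∀ i : I, i.1 * i.1 = i.1 := fun i => by rw [← ht i, ← cj_mul, he]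
  have hI0 : ∀ i : I, i.1 ≠ 0 := fun i h => he0 (by
    rw [← cj_inv_cj ρ (t i) e, ht i, h, cj_zero])
  have hIcard : ∀ i : I, Nat.card (fixedBy i.1) = Nat.card (fixedBy e) := by
    intro i
    rw [← ht i]
    exact (Nat.card_congr
      { toFun := fun x : fixedBy e => (⟨ρ (t i) x, by
          show cj ρ (t i) e (ρ (t i) x) = _
          rw [cj_apply, x.2]⟩ : fixedBy (cj ρ (t i) e))
        invFun := fun y => ⟨ρ (t i)⁻¹ y, by
          show e (ρ (t i)⁻¹ y) = _
          have h := cj_apply ρ (t i)⁻¹ (cj ρ (t i) e) (y : V)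
          rwa [cj_inv_cj, show cj ρ (t i) e y = (y : V) from y.2] at h⟩
        left_inv := fun x => Subtype.ext (rho_inv_apply ρ (t i) (x : V))
        right_inv := fun y => Subtype.ext (rho_apply_inv ρ (t i) (y : V)) }).symm
  have habs : ∀ i j : I, i.1 * j.1 ≠ 0 → i.1 * j.1 = i.1 := by
    intro i j h
    have hc := hcomm i.1 (hIR i) j.1 (hIR j)
    have hid : (i.1 * j.1) * (i.1 * j.1) = i.1 * j.1 := by
      rw [mul_assoc, ← mul_assoc j.1, ← hc, mul_assoc i.1, hIid, ← mul_assoc, hIid]
    have hle : fixedBy (i.1 * j.1) ≤ fixedBy i.1 := by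
      intro x hx
      rw [mem_fixedBy] at hx ⊢
      conv_lhs => rw [← hx]
      show i.1 (i.1 (j.1 x)) = x
      rw [hidem (hIid i)]
      exact hx
    have heq : fixedBy (i.1 * j.1) = fixedBy i.1 := AddSubgroup.eq_of_le_of_card_ge hle
      (hIcard i ▸ hmin _ ⟨R.mul_mem (hIR i) (hIR j), hid, h⟩)
    refine end_ext fun x => ?_
    have hx : i.1 x ∈ fixedBy (i.1 * j.1) := by
      rw [heq, mem_fixedBy]
      exact hidem (hIid i) x
    rw [mem_fixedBy] at hx
    rw [← hx]
    show (i.1 * j.1) x = ((i.1 * j.1) * i.1) x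
    rw [mul_assoc, ← hcomm i.1 (hIR i) j.1 (hIR j), ← mul_assoc, hIid]
  have horth : ∀ i j : I, i ≠ j → i.1 * j.1 = 0 := by
    intro i j hne
    by_contra h
    have h1 := habs i j h
    rw [hcomm i.1 (hIR i) j.1 (hIR j)] at h h1
    exact hne (Subtype.ext (h1.symm.trans (habs j i h)))
  have happly : ∀ i j : I, ∀ x, j.1 x = x → i.1 x = if i = j then x else 0 := by
    intro i j x hx
    split_ifs with h
    · exact h ▸ hx
    · rw [← hx]
      exact DFunLike.congr_fun (horth i j h) x
  let i0 : I := ⟨e, 1, cj_one_left ρ e⟩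
  -- the sum of the conjugates
  have hsum : ∀ x, ∑ i : I, i.1 x = x := by
    let s : AddMonoid.End V := ∑ i : I, i.1
    have hs : ∀ x, s x = ∑ i : I, i.1 x := fun x => AddMonoidHom.finsetSum_apply _ _ x
    have hii : ∀ x, s (s x) = s x := by
      intro x
      rw [hs, hs, ]
      refine Finset.sum_congr rfl fun i _ => ?_
      rw [map_sum, Finset.sum_congr rfl fun j _ => happly i j (j.1 x) (hidem (hIid j) x),
        Finset.sum_ite_eq]
      simp
    have hinvs : Inv ρ (fixedBy s) := by
      intro g x hx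
      rw [mem_fixedBy] at hx ⊢
      conv_rhs => rw [← hx]
      rw [hs, hs, map_sum]
      refine (Fintype.sum_equiv (MulAction.toPerm g) _ _ fun i => ?_).symm
      exact (cj_apply ρ g i.1 x).symm
    rcases hirr _ hinvs with h | h
    · exfalso
      refine he0 (end_ext fun x => ?_)
      have hx : e x ∈ fixedBy s := by
        rw [mem_fixedBy, hs,
          Finset.sum_congr rfl fun i _ => happly i i0 (e x) (hidem he x), Finset.sum_ite_eq']
        simp
      rw [h, AddSubgroup.mem_bot] at hx
      exact hx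
    · intro x
      rw [← hs]
      exact (show x ∈ fixedBy s by rw [h]; trivial)
  -- the block
  let B : Subgroup G := MulAction.stabilizer G i0
  have hB : ∀ g, g ∈ B ↔ cj ρ g e = e := fun g => by
    show g • i0 = i0 ↔ _
    exact Subtype.ext_iff
  let W : AddSubgroup V := fixedBy e
  let ρB : B →* AddMonoid.End V := ρ.comp B.subtype
  have hW : Inv ρB W := by
    intro b x hx
    rw [mem_fixedBy] at hx ⊢
    have := cj_apply ρ (b : G) e x
    rwa [(hB b).mp b.2, hx] at this
  have hcrW : CR (restr ρB W hW) := by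
    refine Irr.cr fun U hU => ?_
    by_cases hU0 : U = ⊥
    · exact Or.inl hU0
    refine Or.inr ?_
    let U' : AddSubgroup V := AddSubgroup.closure {y | ∃ g, ∃ x ∈ U, ρ g (x : V) = y}
    have hU' : Inv ρ U' := by
      intro g x hx
      refine AddSubgroup.closure_induction ?_ ?_ ?_ ?_ hx
      · rintro _ ⟨h, y, hy, rfl⟩
        exact AddSubgroup.subset_closure ⟨g * h, y, hy, rho_mul ρ g h y.1⟩
      · rw [map_zero]; exact zero_mem _
      · intro a b _ _ ha hb
        rw [map_add]
        exact add_mem ha hb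
      · intro a _ ha
        rw [map_neg]
        exact neg_mem ha
    have hU'top : U' = ⊤ := by
      refine (hirr U' hU').resolve_left fun h => hU0 ?_
      rw [AddSubgroup.eq_bot_iff_forall]
      intro x hx
      have : ρ 1 (x : V) ∈ U' := AddSubgroup.subset_closure ⟨1, x, hx, rfl⟩
      rw [h, AddSubgroup.mem_bot, rho_one] at this
      exact Subtype.ext this
    rw [AddSubgroup.eq_top_iff']
    have key : ∀ y ∈ U', e y ∈ U.map W.subtype := by
      intro y hy
      refine AddSubgroup.closure_induction ?_ ?_ ?_ ?_ hy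
      · rintro _ ⟨g, x, hx, rfl⟩
        by_cases hg : g ∈ B
        · exact ⟨_, hU ⟨g, hg⟩ x hx, (hW ⟨g, hg⟩ x x.2).symm⟩
        · have hne : g⁻¹ • i0 ≠ i0 := fun h => hg (inv_mem_iff.mp
            (show g⁻¹ ∈ MulAction.stabilizer G i0 from h))
          have h0 := happly (g⁻¹ • i0) i0 (x : V) x.2
          rw [if_neg hne] at h0
          have h := cj_apply ρ g (g⁻¹ • i0).1 (x : V)
          rw [show cj ρ g (g⁻¹ • i0).1 = e from
            congrArg Subtype.val (smul_inv_smul g i0), h0, map_zero] at h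
          rw [h]
          exact zero_mem _
      · rw [map_zero]; exact zero_mem _
      · intro a b _ _ ha hb
        rw [map_add]
        exact add_mem ha hb
      · intro a _ ha
        rw [map_neg]
        exact neg_mem ha
    intro w
    obtain ⟨u, hu, huw⟩ := key w (by rw [hU'top]; trivial)
    rw [w.2] at huw
    rwa [← Subtype.ext (show (u : V) = w from huw)]
  have hWnt : Nontrivial W := by
    by_contra h
    rw [not_nontrivial_iff_subsingleton] at h
    refine he0 (end_ext fun x => ?_)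
    exact congrArg Subtype.val (Subsingleton.elim (⟨e x, hidem he x⟩ : W) 0)
  haveI : Nontrivial V := Function.Injective.nontrivial (f := ((↑) : W → V)) Subtype.coe_injective
  obtain ⟨p, hp, hpV⟩ := exists_prime_smul hirr
  haveI := hp
  obtain ⟨P, hP, hPP⟩ := five_triples (p := p)
    (fun v : W => Subtype.ext (hpV v)) (ih B W (restr ρB W hW) hWlt inferInstance hcrW)
  obtain ⟨s, hs⟩ := exists_colouring (G := G) (Ω := I)
  let vec : (I → W) → V := fun w => ∑ i : I, ρ (t i) (w i : V)
  have hcomp : ∀ (w : I → W) (i : I), i.1 (vec w) = ρ (t i) (w i : V) := by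
    intro w i
    have hfix : ∀ j : I, j.1 (ρ (t j) (w j : V)) = ρ (t j) (w j : V) := fun j => by
      conv_lhs => rw [← ht j]
      rw [cj_apply, (w j).2]
    simp only [vec]
    rw [map_sum, Finset.sum_congr rfl fun j _ => happly i j _ (hfix j), Finset.sum_ite_eq]
    simp
  have hmove : ∀ (w : I → W) (g : G), ρ g (vec w) = vec w → ∀ i : I,
      ρ ((t (g • i))⁻¹ * g * t i) (w i : V) = (w (g • i) : V) := by
    intro w g hg i
    have h := cj_apply ρ g i.1 (vec w)
    rw [hg, show cj ρ g i.1 = (g • i).1 from rfl, hcomp, hcomp] at h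
    rw [rho_mul, rho_mul, ← h, rho_inv_apply]
  refine ⟨fun k => vec fun i => P (s i) k, fun g hx => ?_⟩
  have hmem : ∀ i : I, (t (g • i))⁻¹ * g * t i ∈ B := by
    intro i
    rw [hB, cj_comp, cj_comp, ht i, show cj ρ g i.1 = (g • i).1 from rfl]
    have h := cj_inv_cj ρ (t (g • i)) e
    rwa [ht] at h
  have hs' : ∀ i, s (g • i) = s i := fun i =>
    (hPP (s i) (s (g • i)) ⟨_, hmem i⟩ fun k => Subtype.ext (hmove _ g (hx k) i)).symm
  have htriv := hs g hs'
  refine end_ext fun x => ?_
  show ρ g x = x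
  conv_lhs => rw [← hsum x]
  rw [map_sum]
  conv_rhs => rw [← hsum x]
  refine Finset.sum_congr rfl fun i _ => ?_
  have hb : restr ρB W hW ⟨_, hmem i⟩ = 1 := hP (s i) ⟨_, hmem i⟩
    fun k => Subtype.ext ((hmove _ g (hx k) i).trans (by rw [hs']))
  have hw : ρ (t i)⁻¹ (i.1 x) ∈ W := by
    rw [mem_fixedBy]
    have h := cj_apply ρ (t i)⁻¹ i.1 (i.1 x)
    rw [hidem (hIid i) x] at h
    have h2 := cj_inv_cj ρ (t i) e
    rw [ht i] at h2
    rwa [h2] at h
  have h := congrArg Subtype.val (DFunLike.congr_fun hb ⟨_, hw⟩)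
  change ρ ((t (g • i))⁻¹ * g * t i) (ρ (t i)⁻¹ (i.1 x)) = ρ (t i)⁻¹ (i.1 x) at h
  rw [htriv i, rho_mul, rho_apply_inv, rho_mul] at h
  exact rho_injective ρ (t i)⁻¹ h

end CfsgLib.SolBase
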